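import Groth.Agent.Lib.DefH13.Ret
import Groth.Agent.Lib.HilbObs3.Semismall
import Groth.Agent.Lib.HilbObs3.Obs
import Groth.Agent.Lib.CAlgLow.NilLift

/-!
# Homomorphisms out of the functions on a chart of a trivial deformation
-/

set_option autoImplicit false
set_option linter.style.haveILetI false
set_option backward.isDefEq.respectTransparency.types false

universe u

open CategoryTheory CategoryTheory.Limits AlgebraicGeometry IsLocalRing

namespace Groth.Agent.DefObs3

open ArtFun ArtFun.Art HilbRS3 HilbObs3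

variable {k : Type u} [Field k] {X : Scheme.{u}} (x : X ⟶ Art.specPt k)

/-- The ring of a chart. -/
noncomputable abbrev BW (A : Art k k) (W : X.affineOpens) : CommRingCat.{u} := Γ(XA x A, (chart x A W).1)

theorem isPushout_chart (A : Art k k) (U : X.affineOpens) :
    IsPushout (CommRingCat.ofHom (ThickAff3.str x U.1)) (CommRingCat.ofHom (algebraMap k A.carrier))
      (CommRingCat.ofHom (cι x A U)) (CommRingCat.ofHom (cσ x A U)) := by
  have hpo := FlatH4.isPushout_sections (UY := (chart x A U).1) (IsPullback.of_hasPullback x (specOver A))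
    (US := ⊤) (UT := ⊤) le_top (UX := U.1) le_top (by simp [chart]) (isAffineOpen_top _) (isAffineOpen_top _) U.2
  refine hpo.of_iso (Scheme.ΓSpecIso (CommRingCat.of k)) (Iso.refl _) (Scheme.ΓSpecIso (CommRingCat.of A)) (Iso.refl _)
    ?_ ?_ ?_ ?_
  · show x.appLE ⊤ _ _ ≫ 𝟙 _ = (Scheme.ΓSpecIso (CommRingCat.of k)).hom ≫
      ((Scheme.ΓSpecIso (CommRingCat.of k)).inv ≫ x.appLE ⊤ _ le_top)
    rw [Category.comp_id, Iso.hom_inv_id_assoc]
  · have e : A.ofBase.toAlgHom.toRingHom = algebraMap k A := RingHom.ext fun c => A.ofBase.toAlgHom.commutes c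
    show (Spec.map (CommRingCat.ofHom A.ofBase.toAlgHom.toRingHom)).appLE ⊤ ⊤ _ ≫ _ = _
    rw [e]
    refine Eq.trans ?_ (Scheme.ΓSpecIso_naturality (CommRingCat.ofHom (algebraMap k A)))
    congr 1
  · show _ ≫ 𝟙 _ = 𝟙 _ ≫ _
    rw [Category.comp_id, Category.id_comp]
    exact (Scheme.Hom.app_eq_appLE _).symm
  · show (XApr x A).appLE ⊤ _ _ ≫ 𝟙 _ = (Scheme.ΓSpecIso (CommRingCat.of A)).hom ≫
      ((Scheme.ΓSpecIso (CommRingCat.of A)).inv ≫ (XApr x A).appLE ⊤ _ le_top)
    rw [Category.comp_id, Iso.hom_inv_id_assoc]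

variable {A : Art k k} {U : X.affineOpens}

/-- Homomorphisms out of a chart are determined by functions on `X` and scalars. -/
theorem bw_ext {S : Type*} [CommRing S] {φ ψ : BW x A U →+* S} (hι : ∀ r, φ (cι x A U r) = ψ (cι x A U r))
    (hσ : ∀ a, φ (cσ x A U a) = ψ (cσ x A U a)) (z : BW x A U) : φ z = ψ z := by
  induction (bc_base x A U).2.1 z using AddSubgroup.closure_induction with
  | mem z hz =>
    obtain ⟨a, r, rfl⟩ := hz
    rw [map_mul, map_mul, hι, hσ]
  | zero => rw [map_zero, map_zero]
  | add z w _ _ hz hw => rw [map_add, map_add, hz, hw]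
  | neg z _ hz => rw [map_neg, map_neg, hz]

variable {S : Type u} [CommRing S] (g : Γ(X, U.1) →+* S) (a : A.carrier →+* S)
  (h : ∀ c, g (ThickAff3.str x U.1 c) = a (algebraMap k A.carrier c))

/-- The homomorphism out of a chart. -/
noncomputable def desc : BW x A U →+* S :=
  ((isPushout_chart x A U).desc (W := CommRingCat.of S) (CommRingCat.ofHom g) (CommRingCat.ofHom a)
    (CommRingCat.hom_ext (RingHom.ext h))).hom

theorem desc_cι (r : Γ(X, U.1)) : desc x g a h (cι x A U r) = g r :=
  congrArg (fun φ : Γ(X, U.1) ⟶ CommRingCat.of S => φ.hom r)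
    ((isPushout_chart x A U).inl_desc (CommRingCat.ofHom g) (CommRingCat.ofHom a) _)

theorem desc_cσ (b : A.carrier) : desc x g a h (cσ x A U b) = a b :=
  congrArg (fun φ : CommRingCat.of A.carrier ⟶ CommRingCat.of S => φ.hom b)
    ((isPushout_chart x A U).inr_desc (CommRingCat.ofHom g) (CommRingCat.ofHom a) _)

omit g a h

/-- A homomorphism into a flat algebra lifting an isomorphism on closed fibres is bijective. -/
theorem bijective_chart (φ : BW x A U →+* S) (π : S →+* Γ(X, U.1)) (hπ : ∀ z, π (φ z) = cι₀ x A U z)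
    (hker : RingHom.ker π ≤ (maximalIdeal A.carrier).map (φ.comp (cσ x A U)))
    (hflat : (φ.comp (cσ x A U)).Flat) : Function.Bijective φ := by
  have hm := isNilpotent_m A
  letI : Algebra A.carrier (BW x A U) := (cσ x A U).toAlgebra
  letI : Algebra A.carrier S := (φ.comp (cσ x A U)).toAlgebra
  haveI : Module.Flat A.carrier S := hflat
  let Φ : BW x A U →ₗ[A.carrier] S :=
    { φ.toAddMonoidHom with
      map_smul' := fun b z => by
        show φ (cσ x A U b * z) = φ (cσ x A U b) * φ z
        rw [map_mul] }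
  have hsurj : Function.Surjective Φ := by
    rw [← LinearMap.range_eq_top]
    have hQ : (⊤ : Submodule A.carrier (S ⧸ LinearMap.range Φ)) = ⊥ := by
      refine CAlgLow.eq_bot_of_le_smul hm _ fun q _ => ?_
      obtain ⟨z, rfl⟩ := Submodule.mkQ_surjective _ q
      have h1 : z - φ (cι x A U (π z)) ∈ RingHom.ker π := by
        rw [RingHom.mem_ker, map_sub, hπ, cι₀_cι, sub_self]
      have h2 : z - φ (cι x A U (π z)) ∈ (maximalIdeal A.carrier) • (⊤ : Submodule A.carrier S) := by
        rw [Ideal.smul_top_eq_map]; exact hker h1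
      have h3 := Submodule.mem_map_of_mem (f := (LinearMap.range Φ).mkQ) h2
      rw [Submodule.map_smul'', Submodule.map_top, Submodule.range_mkQ, map_sub,
        show (LinearMap.range Φ).mkQ (φ (cι x A U (π z))) = 0 from
          (Submodule.Quotient.mk_eq_zero _).2 ⟨_, rfl⟩, sub_zero] at h3
      exact h3
    exact le_antisymm le_top fun z _ => (Submodule.Quotient.mk_eq_zero _).1
      ((Submodule.mem_bot _).1 (hQ ▸ Submodule.mem_top))
  haveI := Hartogs3.free_of_flat hm S
  obtain ⟨s, hs⟩ := Module.projective_lifting_property Φ LinearMap.id hsurj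
  refine ⟨?_, hsurj⟩
  show Function.Injective Φ
  refine LinearMap.ker_eq_bot.1 (CAlgLow.eq_bot_of_le_smul hm _ fun z hz => ?_)
  have hz0 : Φ z = 0 := hz
  have h2 : z ∈ (maximalIdeal A.carrier) • (⊤ : Submodule A.carrier (BW x A U)) := by
    rw [Ideal.smul_top_eq_map]
    refine (ker_cι₀ x A U).le ?_
    rw [RingHom.mem_ker, ← hπ, show φ z = 0 from hz0, map_zero]
  have h3 := Submodule.mem_map_of_mem (f := LinearMap.id - s ∘ₗ Φ) h2
  rw [Submodule.map_smul'', LinearMap.sub_apply, LinearMap.id_apply, LinearMap.comp_apply, hz0, map_zero, sub_zero] at h3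
  refine Submodule.smul_mono le_rfl ?_ h3
  rintro _ ⟨w, -, rfl⟩
  show Φ (w - s (Φ w)) = 0
  rw [map_sub, ← LinearMap.comp_apply Φ s, hs, LinearMap.id_apply, sub_self]

/-- The kernel elements of a semismall step only see the closed fibre. -/
theorem σ_mul_eq {B : Art k k} {p : B ⟶ A} (hp : IsSemismallExt p) {b : B} (hb : b ∈ RingHom.ker p.toAlgHom)
    {z z' : BW x B U} (h : cι₀ x B U z = cι₀ x B U z') : cσ x B U b * z = cσ x B U b * z' := by
  rw [← sub_eq_zero, ← mul_sub]
  have hy : z - z' ∈ (maximalIdeal B.carrier).map (cσ x B U) := by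
    rw [← ker_cι₀ x B U, RingHom.mem_ker, map_sub, h, sub_self]
  generalize z - z' = y at hy ⊢
  induction hy using Submodule.span_induction with
  | mem t ht =>
    obtain ⟨c, hc, rfl⟩ := ht
    have h0 := Ideal.mul_mem_mul hc hb
    rw [hp.2, Ideal.mem_bot] at h0
    rw [← map_mul, mul_comm, h0, map_zero]
  | zero => rw [mul_zero]
  | add s t _ _ hs ht => rw [mul_add, hs, ht, add_zero]
  | smul r t _ ht => rw [smul_eq_mul, mul_left_comm, ht, mul_zero]

section Kernel

variable {B : Art k k} {p : B ⟶ A} (hp : IsSemismallExt p) {e : ℕ}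
  (b : Module.Basis (Fin e) k (RingHom.ker p.toAlgHom))

/-- An element of the kernel of a semismall step with given coefficients. -/
noncomputable def kel (U : X.affineOpens) (d : Fin e → Γ(X, U.1)) : BW x B U :=
  ∑ l, cσ x B U ((b l : ↥(RingHom.ker p.toAlgHom)) : B.carrier) * cι x B U (d l)

theorem kel_mem (d : Fin e → Γ(X, U.1)) : cπ x p U (kel x b U d) = 0 := by
  rw [kel, map_sum]
  refine Finset.sum_eq_zero fun l _ => ?_
  rw [map_mul, cπ_cσ, show p.toAlgHom (b l).1 = 0 from RingHom.mem_ker.1 (b l).2, map_zero, zero_mul]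

theorem kel_add (d d' : Fin e → Γ(X, U.1)) : kel x b U (d + d') = kel x b U d + kel x b U d' := by
  simp only [kel, Pi.add_apply, map_add, mul_add, Finset.sum_add_distrib]

theorem cι₀_kel (d : Fin e → Γ(X, U.1)) : cι₀ x B U (kel x b U d) = 0 := by
  rw [← cι₀_cπ x p, kel_mem, map_zero]

include hp in
theorem kel_mul (d : Fin e → Γ(X, U.1)) (z : BW x B U) :
    z * kel x b U d = kel x b U (fun l => cι₀ x B U z * d l) := by
  rw [kel, kel, Finset.mul_sum]
  refine Finset.sum_congr rfl fun l _ => ?_
  rw [mul_left_comm]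
  exact σ_mul_eq x hp (b l).2 (by rw [map_mul, cι₀_cι, cι₀_cι])

include hp in
theorem kel_mul_kel (d d' : Fin e → Γ(X, U.1)) : kel x b U d * kel x b U d' = 0 := by
  rw [kel_mul x hp, cι₀_kel]
  simp [kel]

include hp in
theorem exists_kel {z : BW x B U} (hz : cπ x p U z = 0) : ∃ d, z = kel x b U d := by
  have h := (ker_cπ_map x p U).le (RingHom.mem_ker.2 hz)
  induction h using Submodule.span_induction with
  | mem t ht =>
    obtain ⟨a, ha, rfl⟩ := ht
    refine ⟨fun l => ThickAff3.str x U.1 (b.repr ⟨a, ha⟩ l), ?_⟩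
    have e1 := congrArg (fun v : ↥(RingHom.ker p.toAlgHom) => (v : B.carrier)) (b.sum_repr ⟨a, ha⟩)
    simp only [Submodule.coe_sum, Submodule.coe_smul_of_tower] at e1
    conv_lhs => rw [← e1]
    rw [kel, map_sum]
    refine Finset.sum_congr rfl fun l _ => ?_
    rw [Algebra.smul_def, map_mul, cι_str, mul_comm]
  | zero => exact ⟨0, by simp [kel]⟩
  | add s t _ _ hs ht =>
    obtain ⟨d, rfl⟩ := hs (by rwa [← RingHom.mem_ker, ker_cπ_map x p U])
    obtain ⟨d', rfl⟩ := ht (by rwa [← RingHom.mem_ker, ker_cπ_map x p U])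
    exact ⟨d + d', (kel_add x b d d').symm⟩
  | smul r t ht' ht =>
    obtain ⟨d, rfl⟩ := ht (by rwa [← RingHom.mem_ker, ker_cπ_map x p U])
    exact ⟨_, kel_mul x hp b d r⟩

theorem kel_injective : Function.Injective (kel x b U) := by
  intro d d' h
  suffices H : ∀ d, kel x b U d = 0 → d = 0 by
    refine sub_eq_zero.1 (H (d - d') ?_)
    have := kel_add x b (U := U) (d - d') d'
    rw [sub_add_cancel, h] at this
    exact left_eq_add.1 (this.trans (add_comm _ _))
  intro d hd
  -- Expand along a basis of the functions on `X`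
  letI : Algebra k Γ(X, U.1) := (ThickAff3.str x U.1).toAlgebra
  let c := Module.Free.chooseBasis k Γ(X, U.1)
  letI : Algebra k (BW x B U) := ((cσ x B U).comp (algebraMap k B.carrier)).toAlgebra
  let ιl : Γ(X, U.1) →ₗ[k] BW x B U :=
    { (cι x B U).toAddMonoidHom with
      map_smul' := fun r z => by
        show cι x B U (ThickAff3.str x U.1 r * z) = cσ x B U (algebraMap k B.carrier r) * cι x B U z
        rw [map_mul, cι_str] }
  have hbasis := (bc_base x B U).push (I := ⊥) (r := fun i => c i) (ι := Module.Free.ChooseBasisIndex k Γ(X, U.1))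
    ⟨fun s => ⟨c.repr s, by
      rw [Ideal.mem_bot, sub_eq_zero]
      conv_lhs => rw [← c.linearCombination_repr s]
      rw [comb, Finsupp.linearCombination_apply]
      rfl⟩, fun q hq => by
      rw [Ideal.mem_bot] at hq
      exact linearIndependent_iff.1 c.linearIndependent q (by
        rw [Finsupp.linearCombination_apply]; exact hq)⟩
  rw [Ideal.map_bot] at hbasis
  classical
  let Q : Module.Free.ChooseBasisIndex k Γ(X, U.1) →₀ B.carrier :=
    ∑ l, (c.repr (d l)).mapRange (fun r => algebraMap k B.carrier r * ((b l : ↥(RingHom.ker p.toAlgHom)) : B.carrier))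
      (by rw [map_zero, zero_mul])
  have hQ : comb (cσ x B U) (cι x B U ∘ fun i => c i) Q = kel x b U d := by
    rw [map_sum, kel]
    refine Finset.sum_congr rfl fun l _ => ?_
    conv_rhs => rw [← c.linearCombination_repr (d l)]
    generalize c.repr (d l) = q
    induction q using Finsupp.induction_linear with
    | zero => simp
    | add q q' hq hq' =>
      rw [Finsupp.mapRange_add (fun r s => by rw [map_add, add_mul]), map_add, map_add, map_add, mul_add, hq, hq']
    | single i r =>
      rw [Finsupp.mapRange_single, comb_single, Finsupp.linearCombination_single, map_mul, Function.comp_apply]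
      show _ = _ * cι x B U (ThickAff3.str x U.1 r * c i)
      rw [map_mul, cι_str]
      ring
  have h0 := hbasis.2 Q (by rw [hQ, hd]; exact zero_mem _)
  funext l
  refine c.repr.injective (Finsupp.ext fun i => ?_)
  have h1 : ∑ l, c.repr (d l) i • b l = 0 := Subtype.ext (by
    have := DFunLike.congr_fun h0 i
    simp only [Q, Finsupp.finsetSum_apply, Finsupp.mapRange_apply, Finsupp.zero_apply] at this
    simpa [Algebra.smul_def] using this)
  simpa using linearIndependent_iff'.1 b.linearIndependent Finset.univ (fun l => c.repr (d l) i) h1 l (Finset.mem_univ l)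

end Kernel

end Groth.Agent.DefObs3
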