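import Groth.Agent.Lib.DefObs3.Glue
import Groth.Agent.Lib.DefH13.Surj

/-!
# The cocycle of a deformation and morphisms into glued deformations
-/

set_option autoImplicit false
set_option linter.style.haveILetI false
set_option backward.isDefEq.respectTransparency.types false

universe u

open CategoryTheory CategoryTheory.Limits AlgebraicGeometry TopologicalSpace IsLocalRing Opposite

namespace Groth.Agent.DefObs3

open ArtFun ArtFun.Art HilbRS3 HilbObs3 DefGlue3
open DefH13 (Ret up upA iW gU)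

variable {k : Type u} [Field k] {X : Scheme.{u}} {x : X ⟶ Art.specPt k} {A B : Art k k} {ξ : DefSch X x A}

section E

variable {U : X.Opens} (R : Ret ξ U) (W : X.affineOpens) (hW : W.1 ≤ U)

/-- The coordinates of a deformation given by a retraction. -/
noncomputable def E : BW x A W →+* Γ(ξ.total, up ξ W.1) :=
  desc x (R.app W hW) (ThickAff3.str ξ.f (up ξ W.1)) (R.str W hW)

theorem E_cι (r : Γ(X, W.1)) : E R W hW (cι x A W r) = R.app W hW r := desc_cι x _ _ _ r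

theorem E_cσ (a : A) : E R W hW (cσ x A W a) = ThickAff3.str ξ.f (up ξ W.1) a := desc_cσ x _ _ _ a

theorem iW_E (z : BW x A W) : iW ξ W.1 (E R W hW z) = cι₀ x A W z :=
  bw_ext x (φ := (iW ξ W.1).comp (E R W hW)) (fun r => by
    show iW ξ W.1 (E R W hW (cι x A W r)) = _
    rw [E_cι, R.sect, cι₀_cι]) (fun a => by
    show iW ξ W.1 (E R W hW (cσ x A W a)) = _
    rw [E_cσ, DefH13.iW_str, cι₀_cσ]) z

theorem E_bijective : Function.Bijective (E R W hW) := by
  have e : (E R W hW).comp (cσ x A W) = ThickAff3.str ξ.f (up ξ W.1) := RingHom.ext (E_cσ R W hW)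
  refine bijective_chart x (E R W hW) (iW ξ W.1) (iW_E R W hW) ?_ ?_
  · rw [e]; exact (DefH13.ker_iW ξ W).le
  · rw [e]; exact DefGlue3.flat_str ξ.f (DefH13.isAffineOpen_up ξ W.2)

theorem E_res {W' : X.affineOpens} (hW' : W'.1 ≤ U) (h : W'.1 ≤ W.1) (z : BW x A W) :
    ξ.total.presheaf.map (homOfLE (DefH13.up_mono ξ h)).op (E R W hW z) = E R W' hW' (cres x A h z) :=
  bw_ext x (φ := (ξ.total.presheaf.map (homOfLE (DefH13.up_mono ξ h)).op).hom.comp (E R W hW))
    (ψ := (E R W' hW').comp (cres x A h)) (fun r => by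
      show ξ.total.presheaf.map _ (E R W hW (cι x A W r)) = E R W' hW' (cres x A h (cι x A W r))
      rw [E_cι, cres_cι, E_cι, R.nat W hW W' hW' h]) (fun a => by
      show ξ.total.presheaf.map _ (E R W hW (cσ x A W a)) = E R W' hW' (cres x A h (cσ x A W a))
      rw [E_cσ, cres_cσ, E_cσ]
      exact ThickAff3.res_str ξ.f (DefH13.up_mono ξ h) a) z

/-- The coordinates as an equivalence. -/
noncomputable def Eq' : BW x A W ≃+* Γ(ξ.total, up ξ W.1) := RingEquiv.ofBijective _ (E_bijective R W hW)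

end E

variable {n : ℕ} {V : Fin n → X.affineOpens} (R : ∀ i, Ret ξ (V i).1)

/-- A section expressing one retraction in the coordinates of another. -/
noncomputable def fOf (i j : Fin n) : Sec x A ((V i).1 ⊓ (V j).1) where
  app W hW := (Eq' (R i) W (hW.trans inf_le_left)).symm.toRingHom.comp ((R j).app W (hW.trans inf_le_right))
  sect W hW r := by
    show cι₀ x A W ((Eq' (R i) W _).symm ((R j).app W _ r)) = r
    rw [← iW_E (R i) W (hW.trans inf_le_left)]
    exact (congrArg (iW ξ W.1) ((Eq' (R i) W _).apply_symm_apply _)).trans ((R j).sect W _ r)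
  str W hW c := by
    show (Eq' (R i) W _).symm ((R j).app W _ (ThickAff3.str x W.1 c)) = _
    rw [RingEquiv.symm_apply_eq, (R j).str]
    exact (E_cσ (R i) W _ _).symm
  nat W hW W' hW' h r := by
    refine (E_bijective (R i) W' (hW'.trans inf_le_left)).1 ?_
    rw [← E_res (R i) W (hW.trans inf_le_left) (hW'.trans inf_le_left) h]
    refine (congrArg _ ((Eq' (R i) W _).apply_symm_apply _)).trans (Eq.trans ?_ ((Eq' (R i) W' _).apply_symm_apply _).symm)
    exact (R j).nat W _ W' _ h r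

theorem E_fOf (i j : Fin n) (W : X.affineOpens) (hi : W.1 ≤ (V i).1) (hj : W.1 ≤ (V j).1) (r : Γ(X, W.1)) :
    E (R i) W hi ((fOf R i j).app W (le_inf hi hj) r) = (R j).app W hj r :=
  (Eq' (R i) W hi).apply_symm_apply _

theorem E_T_fOf (i j : Fin n) (W : X.affineOpens) (hi : W.1 ≤ (V i).1) (hj : W.1 ≤ (V j).1) (z : BW x A W) :
    E (R i) W hi (T (fOf R i j) W (le_inf hi hj) z) = E (R j) W hj z :=
  bw_ext x (φ := (E (R i) W hi).comp (T (fOf R i j) W (le_inf hi hj))) (fun r => by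
    show E (R i) W hi (T (fOf R i j) W (le_inf hi hj) (cι x A W r)) = _
    rw [T_cι, E_fOf R i j W hi hj, E_cι]) (fun a => by
    show E (R i) W hi (T (fOf R i j) W (le_inf hi hj) (cσ x A W a)) = _
    rw [T_cσ, E_cσ, E_cσ]) z

/-- The cocycle of a deformation. -/
noncomputable def cycOf : Cyc x A V where
  f := fOf R
  comp i j l W hi hj hl r := by
    refine (E_bijective (R i) W hi).1 ?_
    rw [E_fOf R i l W hi hl, E_T_fOf R i j W hi hj, E_fOf R j l W hj hl]

/-- A deformation maps to the deformation glued from a lift of its cocycle. -/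
theorem exists_over_glued (hcov : ⨆ i, (V i).1 = ⊤) (p : B ⟶ A) (τ : Cyc x B V)
    (hτ : ∀ i j (W : X.affineOpens) (hW : W.1 ≤ (V i).1 ⊓ (V j).1) r,
      cπ x p W ((τ.f i j).app W hW r) = (fOf R i j).app W hW r) :
    ∃ (ξ' : DefSch X x B) (g : ξ.total ⟶ ξ'.total), Over' p ξ' ξ g := by
  obtain ⟨ξ', ι, hι, hi, hf, hmap⟩ := exists_glued τ hcov
  let m : ∀ q : Pr V, (up ξ q.W.1 : Scheme.{u}) ⟶ ξ'.total := fun q =>
    (DefH13.isAffineOpen_up ξ q.W.2).isoSpec.hom ≫
      Spec.map (CommRingCat.ofHom ((E (R q.i) q.W q.le).comp (cπ x p q.W))) ≫ ι q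
  have hmono : ∀ (r q : Pr V) (h : r ≤ q), ξ.total.homOfLE (DefH13.up_mono ξ h) ≫ m q = m r := by
    intro r q h
    have e1 : ξ.total.homOfLE (DefH13.up_mono ξ h) ≫ (DefH13.isAffineOpen_up ξ q.W.2).isoSpec.hom =
        (DefH13.isAffineOpen_up ξ r.W.2).isoSpec.hom ≫ Spec.map (ξ.total.presheaf.map (homOfLE (DefH13.up_mono ξ h)).op) := by
      rw [← cancel_mono (DefH13.isAffineOpen_up ξ q.W.2).fromSpec, Category.assoc, Category.assoc,
        IsAffineOpen.map_fromSpec _ (DefH13.isAffineOpen_up ξ r.W.2), IsAffineOpen.isoSpec_hom_fromSpec,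
        IsAffineOpen.isoSpec_hom_fromSpec, Scheme.homOfLE_ι]
    have hπT : ∀ z, cπ x p r.W (phi τ h z) =
        T (fOf R r.i q.i) r.W (le_inf r.le (le_trans h q.le)) (cres x A h (cπ x p q.W z)) := fun z => by
      rw [phi_apply, cπ_T, ← cπ_cres]
      exact bw_ext x (fun a => by
        rw [T_cι, T_cι]; exact hτ _ _ _ _ a) (fun a => by rw [T_cσ, T_cσ]) _
    have e2 : CommRingCat.ofHom ((E (R q.i) q.W q.le).comp (cπ x p q.W)) ≫
        ξ.total.presheaf.map (homOfLE (DefH13.up_mono ξ h)).op =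
        CommRingCat.ofHom (phi τ h) ≫ CommRingCat.ofHom ((E (R r.i) r.W r.le).comp (cπ x p r.W)) :=
      CommRingCat.hom_ext (RingHom.ext fun z => by
        show ξ.total.presheaf.map _ (E (R q.i) q.W q.le (cπ x p q.W z)) = E (R r.i) r.W r.le (cπ x p r.W (phi τ h z))
        rw [hπT, E_T_fOf R r.i q.i r.W r.le (le_trans h q.le), E_res (R q.i) q.W q.le (le_trans h q.le) h])
    show _ ≫ (DefH13.isAffineOpen_up ξ q.W.2).isoSpec.hom ≫ _ ≫ _ = _
    rw [reassoc_of% e1, ← Spec.map_comp_assoc, e2, Spec.map_comp_assoc, hmap]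
  have hcov' : ⨆ q : Pr V, up ξ q.W.1 = ⊤ := top_le_iff.1 fun z _ => by
    obtain ⟨w, rfl⟩ := ξ.i.surjective z
    obtain ⟨q, hq⟩ := Opens.mem_iSup.1 ((iSup_Pr hcov).ge (Opens.mem_top w))
    exact Opens.mem_iSup.2 ⟨q, w, hq, rfl⟩
  let 𝒰 := Scheme.openCoverOfIsOpenCover ξ.total (fun q : Pr V => up ξ q.W.1) hcov'
  have hcompat : ∀ (q q' : 𝒰.I₀), pullback.fst (𝒰.f q) (𝒰.f q') ≫ m q = pullback.snd _ _ ≫ m q' :=
    fun (q q' : Pr V) => by
    have hp := isPullback_opens_inf (up ξ q.W.1) (up ξ q'.W.1)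
    change pullback.fst (up ξ q.W.1).ι (up ξ q'.W.1).ι ≫ m q = pullback.snd (up ξ q.W.1).ι (up ξ q'.W.1).ι ≫ m q'
    rw [← cancel_epi hp.isoPullback.hom, IsPullback.isoPullback_hom_fst_assoc, IsPullback.isoPullback_hom_snd_assoc]
    have hc : ∀ w : (q.W.1 ⊓ q'.W.1 : X.Opens), ∃ r : Pr V, (w : X) ∈ r.W.1 ∧ r ≤ q ∧ r ≤ q' := fun w => by
      obtain ⟨W, hW, hw, hle⟩ := exists_isAffineOpen_mem_and_subset w.2
      exact ⟨⟨q.i, ⟨W, hW⟩, fun a ha => q.le (hle ha).1⟩, hw, fun a ha => (hle ha).1, fun a ha => (hle ha).2⟩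
    choose r hwr hrq hrq' using hc
    refine DefH13.hom_ext_le (fun w => up ξ (r w).W.1)
      (fun w => le_inf (DefH13.up_mono ξ (hrq w)) (DefH13.up_mono ξ (hrq' w))) (fun z hz => ?_) _ _ fun w => ?_
    · obtain ⟨⟨w, hw, rfl⟩, w', hw', e⟩ := hz
      obtain rfl := (DefH13.i_homeo ξ).injective e
      exact Opens.mem_iSup.2 ⟨⟨w', hw, hw'⟩, w', hwr _, rfl⟩
    rw [Scheme.homOfLE_homOfLE_assoc, Scheme.homOfLE_homOfLE_assoc]
    exact (hmono (r w) q (hrq w)).trans (hmono (r w) q' (hrq' w)).symm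
  let g := 𝒰.glueMorphisms m hcompat
  have hg : ∀ q : Pr V, (DefH13.isAffineOpen_up ξ q.W.2).fromSpec ≫ g =
      Spec.map (CommRingCat.ofHom ((E (R q.i) q.W q.le).comp (cπ x p q.W))) ≫ ι q := fun q => by
    rw [← IsAffineOpen.isoSpec_inv_ι, Category.assoc]
    change _ ≫ 𝒰.f q ≫ _ = _
    rw [Scheme.Cover.ι_glueMorphisms]
    show _ ≫ (DefH13.isAffineOpen_up ξ q.W.2).isoSpec.hom ≫ _ = _
    rw [Iso.inv_hom_id_assoc]
  refine ⟨ξ', g, ⟨?_, ?_⟩⟩
  · refine Scheme.Cover.hom_ext 𝒰 _ _ fun (q : Pr V) => ?_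
    change (up ξ q.W.1).ι ≫ _ = (up ξ q.W.1).ι ≫ _
    rw [← cancel_epi (DefH13.isAffineOpen_up ξ q.W.2).isoSpec.inv, IsAffineOpen.isoSpec_inv_ι_assoc,
      IsAffineOpen.isoSpec_inv_ι_assoc, reassoc_of% (hg q), hf, ← Spec.map_comp, ← CommRingCat.ofHom_comp]
    rw [show ((E (R q.i) q.W q.le).comp (cπ x p q.W)).comp (cσ x B q.W) =
      (ThickAff3.str ξ.f (up ξ q.W.1)).comp p.toAlgHom.toRingHom from RingHom.ext fun a => by
        show E (R q.i) q.W q.le (cπ x p q.W (cσ x B q.W a)) = _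
        rw [cπ_cσ, E_cσ]
        rfl]
    rw [CommRingCat.ofHom_comp, Spec.map_comp, ← Category.assoc]
    refine congrArg (· ≫ Art.specMap p) ?_
    show Spec.map ((Scheme.ΓSpecIso (CommRingCat.of A)).inv ≫ ξ.f.appLE ⊤ (up ξ q.W.1) le_top) = _
    rw [← IsAffineOpen.SpecMap_appLE_fromSpec ξ.f (isAffineOpen_top _) (DefH13.isAffineOpen_up ξ q.W.2) le_top,
      Spec.map_comp]
    refine congrArg (Spec.map (ξ.f.appLE ⊤ (up ξ q.W.1) le_top) ≫ ·) ?_
    rw [IsAffineOpen.fromSpec_top]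
    exact (Scheme.isoSpec_Spec_inv _).symm
  · refine Scheme.Cover.hom_ext (Scheme.openCoverOfIsOpenCover X (fun q : Pr V => q.W.1) (iSup_Pr hcov)) _ _
      fun (q : Pr V) => ?_
    change q.W.1.ι ≫ _ = q.W.1.ι ≫ _
    rw [hi q, ← cancel_epi q.W.2.isoSpec.inv, IsAffineOpen.isoSpec_inv_ι_assoc,
      ← IsAffineOpen.SpecMap_appLE_fromSpec_assoc ξ.i (DefH13.isAffineOpen_up ξ q.W.2) q.W.2
        (DefH13.pre_up ξ q.W.1).ge, hg q, ← Spec.map_comp_assoc, jW, Category.assoc, Iso.inv_hom_id_assoc]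
    refine congrArg (fun φ => Spec.map φ ≫ ι q) (CommRingCat.hom_ext (RingHom.ext fun z => ?_))
    exact (iW_E (R q.i) q.W q.le (cπ x p q.W z)).trans (cι₀_cπ x p q.W z)

/-- Retractions lift along morphisms of deformations over surjections. -/
theorem exists_ret_lift [Smooth x] {p : B ⟶ A} (hp : Function.Surjective p) {ξ' : DefSch X x B}
    {g : ξ.total ⟶ ξ'.total} (hg : Over' p ξ' ξ g) (U : X.affineOpens) (R : Ret ξ U.1) :
    ∃ R' : Ret ξ' U.1, ∀ W hW r, gU hg W.1 (R'.app W hW r) = R.app W hW r := by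
  haveI := hg.isClosedImmersion hp
  have hle : ∀ W : X.Opens, g ⁻¹ᵁ up ξ' W ≤ up ξ W := fun W z hz => by
    obtain ⟨w, rfl⟩ := ξ.i.surjective z
    refine ⟨w, ?_, rfl⟩
    rw [← DefH13.pre_up ξ' W, ← hg.hi]
    exact hz
  have hsurj : ∀ W : X.affineOpens, Function.Surjective (gU hg W.1) := fun W z => by
    obtain ⟨z', hz'⟩ := g.app_surjective (up ξ' W.1) (DefH13.isAffineOpen_up ξ' W.2)
      (ξ.total.presheaf.map (homOfLE (hle W.1)).op z)
    refine ⟨z', ?_⟩
    show ξ.total.presheaf.map (homOfLE (DefH13.up_le hg W.1)).op (g.app (up ξ' W.1) z') = z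
    rw [hz', DefH13.res_res_self]
  obtain ⟨f, hfq, hfs, hfn⟩ := exists_lift_family (x := x) U (fun W => Γ(ξ'.total, up ξ' W.1)) (fun W => Γ(ξ.total, up ξ W.1))
    (fun h => (ξ'.total.presheaf.map (homOfLE (DefH13.up_mono ξ' h)).op).hom)
    (fun h => (ξ.total.presheaf.map (homOfLE (DefH13.up_mono ξ h)).op).hom)
    (fun {W W' W''} h h' z => (ConcreteCategory.comp_apply _ _ _).symm.trans (by rw [← ξ'.total.presheaf.map_comp]; rfl))
    (fun W => gU hg W.1) hsurj
    (fun W => by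
      obtain ⟨N, hN⟩ := isNilpotent_m B
      refine ⟨N, ?_⟩
      have h1 : RingHom.ker (gU hg W.1) ≤ RingHom.ker (iW ξ' W.1) := fun z hz => by
        rw [RingHom.mem_ker, ← DefH13.iW_gU hg, RingHom.mem_ker.1 hz, map_zero]
      rw [Ideal.zero_eq_bot, ← le_bot_iff]
      refine (Ideal.pow_right_mono (h1.trans (DefH13.ker_iW ξ' W).le) N).trans ?_
      rw [← Ideal.map_pow, hN, Ideal.zero_eq_bot, Ideal.map_bot])
    (fun h z => (DefH13.gU_res hg h z).symm) (fun W => (ThickAff3.str ξ'.f (up ξ' W.1)).comp (algebraMap k B.carrier))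
    (fun h c => ThickAff3.res_str ξ'.f (DefH13.up_mono ξ' h) _) R.app
    (fun W hW c => by
      show _ = gU hg W.1 (ThickAff3.str ξ'.f (up ξ' W.1) (algebraMap k B.carrier c))
      rw [R.str, DefH13.gU_str, AlgHom.commutes])
    R.nat
  refine ⟨{ app := f, str := hfs, nat := hfn, sect := fun W hW r => ?_ }, hfq⟩
  rw [← DefH13.iW_gU hg, hfq, R.sect]

/-- The cocycle of an extension lifts that of the deformation. -/
theorem cπ_fOf {p : B ⟶ A} {ξ' : DefSch X x B} {g : ξ.total ⟶ ξ'.total} (hg : Over' p ξ' ξ g)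
    (R' : ∀ i, Ret ξ' (V i).1) (hR : ∀ i W hW r, gU hg W.1 ((R' i).app W hW r) = (R i).app W hW r)
    (i j : Fin n) (W : X.affineOpens) (hW : W.1 ≤ (V i).1 ⊓ (V j).1) (r : Γ(X, W.1)) :
    cπ x p W ((fOf R' i j).app W hW r) = (fOf R i j).app W hW r := by
  refine (E_bijective (R i) W (hW.trans inf_le_left)).1 ?_
  rw [E_fOf R i j W (hW.trans inf_le_left) (hW.trans inf_le_right), ← hR j W _ r,
    ← E_fOf R' i j W (hW.trans inf_le_left) (hW.trans inf_le_right) r]
  exact bw_ext x (φ := (E (R i) W (hW.trans inf_le_left)).comp (cπ x p W))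
    (ψ := (gU hg W.1).comp (E (R' i) W (hW.trans inf_le_left))) (fun a => by
      show E (R i) W _ (cπ x p W (cι x B W a)) = gU hg W.1 (E (R' i) W _ (cι x B W a))
      rw [cπ_cι, E_cι, E_cι, hR]) (fun a => by
      show E (R i) W _ (cπ x p W (cσ x B W a)) = gU hg W.1 (E (R' i) W _ (cσ x B W a))
      rw [cπ_cσ, E_cσ, E_cσ, DefH13.gU_str]) _

end Groth.Agent.DefObs3
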