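import Groth.Agent.Lib.DefH13.Exist

/-!
# Lifting natural families of homomorphisms out of the functions on affine opens
-/

set_option autoImplicit false
set_option linter.style.haveILetI false
set_option backward.isDefEq.respectTransparency.types false

universe u

open CategoryTheory CategoryTheory.Limits AlgebraicGeometry TopologicalSpace

namespace Groth.Agent.DefObs3

open DefH13

variable {k : Type u} [Field k] {X : Scheme.{u}} {x : X ⟶ Spec (CommRingCat.of k)}

/-- A natural family into a nilpotent quotient lifts over an affine open of a smooth scheme. -/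
theorem exists_lift_family [Smooth x] (V : X.affineOpens) (T S : X.affineOpens → CommRingCat.{u})
    (rT : ∀ {W W' : X.affineOpens}, W'.1 ≤ W.1 → (T W →+* T W'))
    (rS : ∀ {W W' : X.affineOpens}, W'.1 ≤ W.1 → (S W →+* S W'))
    (rT_rT : ∀ {W W' W'' : X.affineOpens} (h : W'.1 ≤ W.1) (h' : W''.1 ≤ W'.1) (z : T W),
      rT h' (rT h z) = rT (h'.trans h) z)
    (q : ∀ W, T W →+* S W) (hq : ∀ W, Function.Surjective (q W)) (hn : ∀ W, IsNilpotent (RingHom.ker (q W)))
    (hqr : ∀ {W W' : X.affineOpens} (h : W'.1 ≤ W.1) (z : T W), q W' (rT h z) = rS h (q W z))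
    (sT : ∀ W, k →+* T W) (hsT : ∀ {W W' : X.affineOpens} (h : W'.1 ≤ W.1) (c : k), rT h (sT W c) = sT W' c)
    (f : ∀ W : X.affineOpens, W.1 ≤ V.1 → (Γ(X, W.1) →+* S W))
    (hfs : ∀ W hW c, f W hW (ThickAff3.str x W.1 c) = q W (sT W c))
    (hfn : ∀ W hW W' hW' (h : W'.1 ≤ W.1) r, rS h (f W hW r) = f W' hW' (X.presheaf.map (homOfLE h).op r)) :
    ∃ g : ∀ W : X.affineOpens, W.1 ≤ V.1 → (Γ(X, W.1) →+* T W),
      (∀ W hW r, q W (g W hW r) = f W hW r) ∧ (∀ W hW c, g W hW (ThickAff3.str x W.1 c) = sT W c) ∧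
        ∀ W hW W' hW' (h : W'.1 ≤ W.1) r, rT h (g W hW r) = g W' hW' (X.presheaf.map (homOfLE h).op r) := by
  obtain ⟨G₀, hG₀, hG₀s⟩ : ∃ G₀ : Γ(X, V.1) →+* T V, (∀ r, q V (G₀ r) = f V le_rfl r) ∧
      ∀ c, G₀ (ThickAff3.str x V.1 c) = sT V c := by
    letI : Algebra k Γ(X, V.1) := (ThickAff3.str x V.1).toAlgebra
    letI : Algebra k (T V) := (sT V).toAlgebra
    letI : Algebra k (S V) := ((q V).comp (sT V)).toAlgebra
    haveI : Algebra.Smooth k Γ(X, V.1) := smooth_str V.2
    let q' : T V →ₐ[k] S V := { q V with commutes' := fun _ => rfl }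
    let f' : Γ(X, V.1) →ₐ[k] S V := { f V le_rfl with commutes' := fun c => hfs V le_rfl c }
    let l := Algebra.FormallySmooth.liftOfSurjective f' q' (hq V) (hn V)
    exact ⟨l.toRingHom, fun r => Algebra.FormallySmooth.liftOfSurjective_apply _ q' _ _ r, l.commutes⟩
  have key : ∀ (W : X.affineOpens) (hW : W.1 ≤ V.1), ∃! G : Γ(X, W.1) →+* T W,
      (∀ r, q W (G r) = f W hW r) ∧ ∀ r, G (X.presheaf.map (homOfLE hW).op r) = rT hW (G₀ r) := by
    intro W hW
    letI : Algebra Γ(X, V.1) Γ(X, W.1) := (X.presheaf.map (homOfLE hW).op).hom.toAlgebra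
    letI : Algebra Γ(X, V.1) (T W) := ((rT hW).comp G₀).toAlgebra
    letI : Algebra Γ(X, V.1) (S W) := ((q W).comp ((rT hW).comp G₀)).toAlgebra
    haveI : Algebra.Etale Γ(X, V.1) Γ(X, W.1) := etale_res V.2 W.2 hW
    let q' : T W →ₐ[Γ(X, V.1)] S W := { q W with commutes' := fun _ => rfl }
    let f' : Γ(X, W.1) →ₐ[Γ(X, V.1)] S W :=
      { f W hW with
        commutes' := fun r => by
          show f W hW (X.presheaf.map (homOfLE hW).op r) = q W (rT hW (G₀ r))
          rw [hqr, hG₀, hfn V le_rfl W hW hW] }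
    obtain ⟨l, hl⟩ : ∃ l : Γ(X, W.1) →ₐ[Γ(X, V.1)] T W, q'.comp l = f' :=
      ⟨Algebra.FormallySmooth.liftOfSurjective f' q' (hq W) (hn W),
        Algebra.FormallySmooth.comp_liftOfSurjective _ _ _ _⟩
    refine ⟨l.toRingHom, ⟨fun r => DFunLike.congr_fun hl r, l.commutes⟩, fun G hG => ?_⟩
    let l' : Γ(X, W.1) →ₐ[Γ(X, V.1)] T W := { G with commutes' := hG.2 }
    have e : l' = l := Algebra.FormallyUnramified.lift_unique_of_ringHom (B := T W)
      (q W) (hn W) l' l (RingHom.ext fun r => (hG.1 r).trans (DFunLike.congr_fun hl r).symm)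
    exact congrArg AlgHom.toRingHom e
  choose G hG _ using key
  refine ⟨G, fun W hW => (hG W hW).1, fun W hW c => ?_, ?_⟩
  · have e : ThickAff3.str x W.1 c = X.presheaf.map (homOfLE hW).op (ThickAff3.str x V.1 c) :=
      (ThickAff3.res_str x hW c).symm
    rw [e, (hG W hW).2, hG₀s, hsT]
  · intro W hW W' hW' h r
    letI : Algebra Γ(X, V.1) Γ(X, W.1) := (X.presheaf.map (homOfLE hW).op).hom.toAlgebra
    letI : Algebra Γ(X, V.1) (T W') := ((rT hW').comp G₀).toAlgebra
    haveI : Algebra.Etale Γ(X, V.1) Γ(X, W.1) := etale_res V.2 W.2 hW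
    let l : Γ(X, W.1) →ₐ[Γ(X, V.1)] T W' :=
      { (rT h).comp (G W hW) with
        commutes' := fun a => by
          show rT h (G W hW (X.presheaf.map (homOfLE hW).op a)) = rT hW' (G₀ a)
          rw [(hG W hW).2, rT_rT] }
    let l' : Γ(X, W.1) →ₐ[Γ(X, V.1)] T W' :=
      { (G W' hW').comp (X.presheaf.map (homOfLE h).op).hom with
        commutes' := fun a => by
          show G W' hW' (X.presheaf.map (homOfLE h).op (X.presheaf.map (homOfLE hW).op a)) = rT hW' (G₀ a)
          rw [← ConcreteCategory.comp_apply, ← X.presheaf.map_comp]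
          exact (hG W' hW').2 a }
    have e : l = l' := Algebra.FormallyUnramified.lift_unique_of_ringHom (B := T W')
      (q W') (hn W') l l' (RingHom.ext fun a => by
        show q W' (rT h (G W hW a)) = q W' (G W' hW' _)
        rw [hqr h, (hG W hW).1, (hG W' hW').1, hfn W hW W' hW' h])
    exact DFunLike.congr_fun e r

end Groth.Agent.DefObs3
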