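import Groth.Agent.Lib.DefObs3.Sec
import Groth.Agent.Lib.DefAff3.Scheme
import Groth.Agent.Lib.DefH13.Glue
import Mathlib.AlgebraicGeometry.Cover.Directed

/-!
# The deformation of a cocycle of automorphisms of charts
-/

set_option autoImplicit false
set_option linter.style.haveILetI false
set_option backward.isDefEq.respectTransparency.types false

universe u

open CategoryTheory CategoryTheory.Limits AlgebraicGeometry TopologicalSpace IsLocalRing Opposite

namespace Groth.Agent.DefObs3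

open ArtFun ArtFun.Art HilbRS3 HilbObs3
open DefH13 (hom_ext_le)

variable {k : Type u} [Field k] {X : Scheme.{u}} {x : X ⟶ Art.specPt k} {A : Art k k}

/-- Affine opens of a member of the cover. -/
structure Pr {n : ℕ} (V : Fin n → X.affineOpens) : Type u where
  /-- the member of the cover -/
  i : Fin n
  /-- the affine open -/
  W : X.affineOpens
  le : W.1 ≤ (V i).1

instance {n : ℕ} (V : Fin n → X.affineOpens) : Preorder (Pr V) :=
  Preorder.lift fun p : Pr V => (p.W.1 : X.Opens)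

/-- A cocycle of sections. -/
structure Cyc (x : X ⟶ Art.specPt k) (A : Art k k) {n : ℕ} (V : Fin n → X.affineOpens) : Type u where
  f : ∀ i j, Sec x A ((V i).1 ⊓ (V j).1)
  comp : ∀ i j l (W : X.affineOpens) (hi : W.1 ≤ (V i).1) (hj : W.1 ≤ (V j).1) (hl : W.1 ≤ (V l).1) r,
    (f i l).app W (le_inf hi hl) r = T (f i j) W (le_inf hi hj) ((f j l).app W (le_inf hj hl) r)

variable {n : ℕ} {V : Fin n → X.affineOpens}

theorem Cyc.self (τ : Cyc x A V) (i : Fin n) (W : X.affineOpens) (hi : W.1 ≤ (V i).1) (r : Γ(X, W.1)) :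
    (τ.f i i).app W (le_inf hi hi) r = cι x A W r :=
  (T_bijective (τ.f i i) W (le_inf hi hi)).1 ((τ.comp i i i W hi hi hi r).symm.trans (T_cι _ _ _ r).symm)

theorem Cyc.T_comp (τ : Cyc x A V) (i j l : Fin n) (W : X.affineOpens) (hi : W.1 ≤ (V i).1) (hj : W.1 ≤ (V j).1)
    (hl : W.1 ≤ (V l).1) (z : BW x A W) : T (τ.f i j) W (le_inf hi hj) (T (τ.f j l) W (le_inf hj hl) z) =
      T (τ.f i l) W (le_inf hi hl) z :=
  bw_ext x (φ := (T (τ.f i j) W (le_inf hi hj)).comp (T (τ.f j l) W (le_inf hj hl))) (fun r => by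
    show T _ W _ (T _ W _ (cι x A W r)) = _
    rw [T_cι, T_cι, τ.comp i j l W hi hj hl]) (fun a => by
    show T _ W _ (T _ W _ (cσ x A W a)) = _
    rw [T_cσ, T_cσ, T_cσ]) z

theorem isOpenImmersion_cres {W W' : X.affineOpens} (h : W'.1 ≤ W.1) :
    IsOpenImmersion (Spec.map (CommRingCat.ofHom (cres x A h))) := by
  haveI : IsOpenImmersion (Spec.map (CommRingCat.ofHom (cres x A h)) ≫ (chart x A W).2.fromSpec) := by
    have e : Spec.map (CommRingCat.ofHom (cres x A h)) ≫ (chart x A W).2.fromSpec =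
        (chart x A W').2.fromSpec :=
      IsAffineOpen.map_fromSpec (chart x A W).2 (chart x A W').2
        (homOfLE (HilbObs3.chart_mono x A h)).op
    rw [e]; infer_instance
  exact IsOpenImmersion.of_comp _ (chart x A W).2.fromSpec

variable (x A) in
/-- The closed fibre of a chart. -/
noncomputable def jW (W : X.affineOpens) : W.1.toScheme ⟶ Spec (BW x A W) :=
  W.2.isoSpec.hom ≫ Spec.map (CommRingCat.ofHom (cι₀ x A W))

theorem isPullback_jW (W : X.affineOpens) :
    IsPullback (jW x A W) (W.1.ι ≫ x) (Spec.map (CommRingCat.ofHom (cσ x A W))) (Art.specRes A) := by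
  have hw : CommRingCat.ofHom (cσ x A W) ≫ CommRingCat.ofHom (cι₀ x A W) =
      CommRingCat.ofHom A.res.toRingHom ≫ CommRingCat.ofHom (ThickAff3.str x W.1) :=
    CommRingCat.hom_ext (RingHom.ext fun a => cι₀_cσ x A W a)
  have hpo := DefAff3.isPushout_of_surjective _ _ _ _ hw A.res_surjective
    (fun r => ⟨cι x A W r, cι₀_cι x A W r⟩) (by
      show RingHom.ker (cι₀ x A W) ≤ _
      rw [ker_cι₀]
      refine Ideal.map_mono ?_
      rw [show maximalIdeal A.carrier = RingHom.ker A.res.toRingHom from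
        (DefGlue3.ker_res _).symm]
      exact le_rfl)
  have hsq := isPullback_SpecMap_of_isPushout _ _ _ _ hpo
  refine IsPullback.of_iso hsq W.2.isoSpec.symm (Iso.refl _) (Iso.refl _) (Iso.refl _) ?_ ?_ ?_ ?_
  · simp only [Iso.refl_hom, Category.comp_id, Iso.symm_hom, jW, Iso.inv_hom_id_assoc]
  · simp only [Iso.refl_hom, Category.comp_id, Iso.symm_hom, IsAffineOpen.isoSpec_inv_ι_assoc]
    show Spec.map ((Scheme.ΓSpecIso (CommRingCat.of k)).inv ≫ x.appLE ⊤ W.1 le_top) = _
    rw [← IsAffineOpen.SpecMap_appLE_fromSpec x (isAffineOpen_top _) W.2 le_top, Spec.map_comp]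
    refine congrArg (Spec.map (x.appLE ⊤ W.1 le_top) ≫ ·) ?_
    rw [IsAffineOpen.fromSpec_top]
    exact Scheme.isoSpec_Spec_inv (CommRingCat.of k) |>.symm
  · simp only [Iso.refl_hom, Category.comp_id, Category.id_comp]
  · simp only [Iso.refl_hom, Category.comp_id, Category.id_comp]

variable (τ : Cyc x A V)

/-- The transition map. -/
noncomputable def phi {p q : Pr V} (h : p ≤ q) : BW x A q.W →+* BW x A p.W :=
  (T (τ.f p.i q.i) p.W (le_inf p.le (le_trans h q.le))).comp (cres x A h)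

theorem phi_apply {p q : Pr V} (h : p ≤ q) (z : BW x A q.W) :
    phi τ h z = T (τ.f p.i q.i) p.W (le_inf p.le (le_trans h q.le)) (cres x A h z) := rfl

theorem cι₀_phi {p q : Pr V} (h : p ≤ q) (z : BW x A q.W) :
    cι₀ x A p.W (phi τ h z) = X.presheaf.map (homOfLE h).op (cι₀ x A q.W z) := by
  rw [phi_apply, cι₀_T, cι₀_cres]
  rfl

theorem phi_cσ {p q : Pr V} (h : p ≤ q) (a : A.carrier) : phi τ h (cσ x A q.W a) = cσ x A p.W a := by
  rw [phi_apply, cres_cσ, T_cσ]

theorem phi_id (p : Pr V) (z : BW x A p.W) : phi τ (le_refl p) z = z := by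
  have e : cres x A (le_refl p.W.1) z = z := by
    show (XA x A).presheaf.map (homOfLE (HilbObs3.chart_mono x A (le_refl p.W.1))).op z = z
    simp
  rw [phi_apply, e]
  exact bw_ext x (ψ := RingHom.id _) (fun r => (T_cι _ _ _ r).trans (τ.self p.i p.W p.le r))
    (fun a => T_cσ _ _ _ a) z

theorem phi_comp {p q r : Pr V} (h : p ≤ q) (h' : q ≤ r) (z : BW x A r.W) :
    phi τ h (phi τ h' z) = phi τ (h.trans h') z := by
  rw [phi_apply, phi_apply, T_res (τ.f q.i r.i) q.W _ (le_inf (le_trans h q.le) (le_trans (h.trans h') r.le)) h,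
    show cres x A h (cres x A h' z) = cres x A (h.trans h') z from RingHom.congr_fun (HilbObs3.cres_cres x h' h) z]
  exact τ.T_comp p.i q.i r.i p.W p.le (le_trans h q.le) (le_trans (h.trans h') r.le) _

/-- The diagram of charts. -/
noncomputable def diag : Pr V ⥤ Scheme.{u} where
  obj p := Spec (BW x A p.W)
  map {p q} h := Spec.map (CommRingCat.ofHom (phi τ (leOfHom h)))
  map_id p := by
    rw [show CommRingCat.ofHom (phi τ (leOfHom (𝟙 p))) = 𝟙 (BW x A p.W) from
      CommRingCat.hom_ext (RingHom.ext fun z => phi_id τ p z)]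
    exact Spec.map_id _
  map_comp {p q r} h h' := by
    rw [← Spec.map_comp, ← CommRingCat.ofHom_comp]
    exact congrArg (fun φ => Spec.map (CommRingCat.ofHom φ)) (RingHom.ext fun z => (phi_comp τ (leOfHom h) (leOfHom h') z).symm)

instance isOpenImmersion_map {p q : Pr V} (h : p ⟶ q) : IsOpenImmersion ((diag τ).map h) := by
  show IsOpenImmersion (Spec.map (CommRingCat.ofHom (phi τ (leOfHom h))))
  rw [show phi τ (leOfHom h) = (T (τ.f p.i q.i) p.W (le_inf p.le (le_trans (leOfHom h) q.le))).comp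
    (cres x A (leOfHom h)) from rfl, CommRingCat.ofHom_comp, Spec.map_comp]
  haveI := isOpenImmersion_cres (x := x) (A := A) (W := q.W) (W' := p.W) (leOfHom h)
  haveI : IsIso (CommRingCat.ofHom (T (τ.f p.i q.i) p.W (le_inf p.le (le_trans (leOfHom h) q.le)))) :=
    (ConcreteCategory.isIso_iff_bijective _).2 (T_bijective _ _ _)
  infer_instance

theorem surjective_jW (W : X.affineOpens) : Surjective (jW x A W) := by
  haveI := DefGlue3.surjective_specRes A
  exact MorphismProperty.of_isPullback (isPullback_jW (x := x) (A := A) W).flip (inferInstance : Surjective (Art.specRes A))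

theorem isClosedImmersion_jW (W : X.affineOpens) : IsClosedImmersion (jW x A W) :=
  MorphismProperty.of_isPullback (isPullback_jW (x := x) (A := A) W).flip (inferInstance : IsClosedImmersion (Art.specRes A))

theorem jW_map {p q : Pr V} (h : p ⟶ q) :
    jW x A p.W ≫ (diag τ).map h = X.homOfLE (leOfHom h) ≫ jW x A q.W := by
  show (p.W.2.isoSpec.hom ≫ _) ≫ Spec.map _ = X.homOfLE (leOfHom h) ≫ q.W.2.isoSpec.hom ≫ _
  rw [Category.assoc, ← Spec.map_comp,
    show CommRingCat.ofHom (phi τ (leOfHom h)) ≫ CommRingCat.ofHom (cι₀ x A p.W) =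
      CommRingCat.ofHom (cι₀ x A q.W) ≫ X.presheaf.map (homOfLE (leOfHom h)).op from
      CommRingCat.hom_ext (RingHom.ext fun z => cι₀_phi τ (leOfHom h) z), Spec.map_comp, ← Category.assoc,
    ← Category.assoc (X.homOfLE (leOfHom h))]
  refine congrArg (· ≫ Spec.map _) ?_
  rw [← cancel_mono q.W.2.fromSpec, Category.assoc, Category.assoc, IsAffineOpen.map_fromSpec _ p.W.2,
    IsAffineOpen.isoSpec_hom_fromSpec, IsAffineOpen.isoSpec_hom_fromSpec, Scheme.homOfLE_ι]

instance isLocallyDirected_diag : ((diag τ) ⋙ Scheme.forget).IsLocallyDirected := ⟨fun {i j l} fi fj xi xj hx => by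
  obtain ⟨zi, rfl⟩ := (surjective_jW (x := x) (A := A) i.W).surj xi
  obtain ⟨zj, rfl⟩ := (surjective_jW (x := x) (A := A) j.W).surj xj
  haveI := isClosedImmersion_jW (x := x) (A := A) l.W
  have hx' : (jW x A i.W ≫ (diag τ).map fi) zi = (jW x A j.W ≫ (diag τ).map fj) zj := hx
  rw [jW_map τ fi, jW_map τ fj] at hx'
  have hz : X.homOfLE (leOfHom fi) zi = X.homOfLE (leOfHom fj) zj := (jW x A l.W).isClosedEmbedding.injective hx'
  have hz' : (zi.1 : X) = zj.1 :=
    (Scheme.homOfLE_apply _ zi).symm.trans ((congrArg Subtype.val hz).trans (Scheme.homOfLE_apply _ zj))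
  obtain ⟨W, hW, hzW, hWle⟩ := exists_isAffineOpen_mem_and_subset (U := i.W.1 ⊓ j.W.1) (x := zi.1)
    ⟨zi.2, hz' ▸ zj.2⟩
  let r : Pr V := ⟨i.i, ⟨W, hW⟩, fun z hz => i.le (hWle hz).1⟩
  have li : r ≤ i := fun z hz => (hWle hz).1
  have lj : r ≤ j := fun z hz => (hWle hz).2
  refine ⟨r, homOfLE li, homOfLE lj, jW x A r.W ⟨zi.1, hzW⟩, ?_, ?_⟩
  · show (jW x A r.W ≫ (diag τ).map (homOfLE li)) ⟨zi.1, hzW⟩ = jW x A i.W zi
    rw [jW_map]
    exact congrArg (jW x A i.W) (Subtype.ext (Scheme.homOfLE_apply _ _))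
  · show (jW x A r.W ≫ (diag τ).map (homOfLE lj)) ⟨zi.1, hzW⟩ = jW x A j.W zj
    rw [jW_map]
    exact congrArg (jW x A j.W) (Subtype.ext ((Scheme.homOfLE_apply _ _).trans hz'))⟩

variable (hcov : ⨆ i, (V i).1 = ⊤)
include hcov

theorem iSup_Pr : ⨆ p : Pr V, (p.W.1 : X.Opens) = ⊤ :=
  top_le_iff.1 fun q hq => by
    obtain ⟨i, hi⟩ := Opens.mem_iSup.1 (hcov.ge hq)
    exact Opens.mem_iSup.2 ⟨⟨i, V i, le_refl _⟩, hi⟩

/-- A glued deformation: total space with charts. -/
theorem exists_glued : ∃ (ξ : DefSch X x A) (ι : ∀ p : Pr V, Spec (BW x A p.W) ⟶ ξ.total),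
    (∀ p, IsOpenImmersion (ι p)) ∧ (∀ p, p.W.1.ι ≫ ξ.i = jW x A p.W ≫ ι p) ∧
    (∀ p, ι p ≫ ξ.f = Spec.map (CommRingCat.ofHom (cσ x A p.W))) ∧
    ∀ (p q : Pr V) (h : p ≤ q), Spec.map (CommRingCat.ofHom (phi τ h)) ≫ ι q = ι p := by
  let F := diag τ
  haveI : ∀ {p q : Pr V} (h : p ⟶ q), IsOpenImmersion (F.map h) := fun h => isOpenImmersion_map τ h
  haveI : (F ⋙ Scheme.forget).IsLocallyDirected := isLocallyDirected_diag τ
  let Z := colimit F
  haveI hι : ∀ p : Pr V, IsOpenImmersion (colimit.ι F p) := fun p => (Scheme.IsLocallyDirected.openCover F).map_prop p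
  let i : X ⟶ Z := (Scheme.openCoverOfIsOpenCover X (fun p : Pr V => p.W.1) (iSup_Pr hcov)).glueMorphisms
    (fun p => jW x A p.W ≫ colimit.ι F p) fun (p q : Pr V) => by
      have hp := isPullback_opens_inf p.W.1 q.W.1
      change pullback.fst p.W.1.ι q.W.1.ι ≫ _ = pullback.snd p.W.1.ι q.W.1.ι ≫ _
      rw [← cancel_epi hp.isoPullback.hom, IsPullback.isoPullback_hom_fst_assoc,
        IsPullback.isoPullback_hom_snd_assoc]
      have hc : ∀ z : (p.W.1 ⊓ q.W.1 : X.Opens), ∃ r : Pr V, (z : X) ∈ r.W.1 ∧ r ≤ p ∧ r ≤ q := fun z => by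
        obtain ⟨W, hW, hz, hle⟩ := exists_isAffineOpen_mem_and_subset z.2
        exact ⟨⟨p.i, ⟨W, hW⟩, fun a ha => p.le (hle ha).1⟩, hz, fun a ha => (hle ha).1, fun a ha => (hle ha).2⟩
      choose r hzr hrp hrq using hc
      refine hom_ext_le (fun z => (r z).W.1) (fun z => le_inf (hrp z) (hrq z))
        (fun z hz => Opens.mem_iSup.2 ⟨⟨z, hz⟩, hzr _⟩) _ _ fun z => ?_
      have e : ∀ (p : Pr V) (h : r z ≤ p), X.homOfLE h ≫ jW x A p.W ≫ colimit.ι F p =
          jW x A (r z).W ≫ colimit.ι F (r z) := fun p h =>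
        (Category.assoc _ _ _).symm.trans ((congrArg (· ≫ colimit.ι F p) (jW_map τ (homOfLE h)).symm).trans
          ((Category.assoc _ _ _).trans (congrArg _ (colimit.w F (homOfLE h)))))
      rw [Scheme.homOfLE_homOfLE_assoc, Scheme.homOfLE_homOfLE_assoc]
      exact (e p (hrp z)).trans (e q (hrq z)).symm
  have hi : ∀ p : Pr V, p.W.1.ι ≫ i = jW x A p.W ≫ colimit.ι F p := fun p =>
    Scheme.Cover.ι_glueMorphisms (Scheme.openCoverOfIsOpenCover X (fun p : Pr V => p.W.1) (iSup_Pr hcov)) _ _ p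
  let f : Z ⟶ Art.spec A := colimit.desc F
    { pt := Art.spec A
      ι := { app := fun p => Spec.map (CommRingCat.ofHom (cσ x A p.W))
             naturality := fun p q h => by
              show Spec.map _ ≫ Spec.map _ = Spec.map _ ≫ 𝟙 _
              rw [Category.comp_id, ← Spec.map_comp, ← CommRingCat.ofHom_comp]
              exact congrArg (fun φ => Spec.map (CommRingCat.ofHom φ)) (RingHom.ext fun a => phi_cσ τ (leOfHom h) a) } }
  have hf : ∀ p : Pr V, colimit.ι F p ≫ f = Spec.map (CommRingCat.ofHom (cσ x A p.W)) :=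
    fun p => colimit.ι_desc _ p
  have hflat : Flat f := by
    refine IsZariskiLocalAtSource.of_openCover (P := @Flat) (Scheme.IsLocallyDirected.openCover F) fun p => ?_
    change Flat (colimit.ι F p ≫ f)
    rw [hf]
    exact (HasRingHomProperty.Spec_iff (P := @Flat)).2 (flat_cσ x A p.W)
  have hpb : ∀ p : Pr V, IsPullback p.W.1.ι (jW x A p.W) i (colimit.ι F p) := fun p => by
    let c : Spec (BW x A p.W) ⟶ Z := colimit.ι F p
    haveI : IsOpenImmersion c := hι p
    refine (IsOpenImmersion.isPullback (jW x A p.W) p.W.1.ι c i (hi p) ?_).flip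
    refine Opens.ext (Set.Subset.antisymm ?_ ?_)
    · rintro z ⟨w, hw⟩
      replace hw : colimit.ι F p w = i z := hw
      rw [Scheme.Opens.opensRange_ι]
      obtain ⟨q, hq⟩ := Opens.mem_iSup.1 ((iSup_Pr hcov).ge (Opens.mem_top z))
      have hz : colimit.ι F q (jW x A q.W ⟨z, hq⟩) = colimit.ι F p w := by
        exact ((congrArg (fun m : q.W.1.toScheme ⟶ Z => m ⟨z, hq⟩) (hi q)).symm.trans rfl).trans hw.symm
      obtain ⟨r, fq, fp, y, hy, -⟩ := (Scheme.IsLocallyDirected.ι_eq_ι_iff F).1 hz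
      obtain ⟨a, rfl⟩ := (surjective_jW (x := x) (A := A) r.W).surj y
      haveI := isClosedImmersion_jW (x := x) (A := A) q.W
      have ha : (jW x A r.W ≫ F.map fq) a = jW x A q.W ⟨z, hq⟩ := hy
      rw [jW_map τ fq] at ha
      have haz : (a.1 : X) = z := (Scheme.homOfLE_apply _ a).symm.trans
        (congrArg Subtype.val ((jW x A q.W).isClosedEmbedding.injective ha))
      exact haz ▸ leOfHom fp a.2
    · rintro _ ⟨a, rfl⟩
      exact ⟨jW x A p.W a, by rw [← Scheme.Hom.comp_apply, ← hi p]; rfl⟩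
  refine ⟨{ total := Z, f := f, flat := hflat, i := i, isPullback := ?_ }, fun p => colimit.ι F p,
    hι, hi, hf, fun p q h => colimit.w F (homOfLE h)⟩
  refine Scheme.isPullback_of_openCover i x f (Art.specRes A) (Scheme.IsLocallyDirected.openCover F) fun p => ?_
  have hpb' := hpb p
  refine IsPullback.of_iso (isPullback_jW (x := x) (A := A) p.W) hpb'.isoPullback (Iso.refl _) (Iso.refl _) (Iso.refl _) ?_ ?_ ?_ ?_
  · show jW x A p.W ≫ 𝟙 _ = hpb'.isoPullback.hom ≫ pullback.snd _ _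
    rw [Category.comp_id, IsPullback.isoPullback_hom_snd]
  · show (p.W.1.ι ≫ x) ≫ 𝟙 _ = hpb'.isoPullback.hom ≫ pullback.fst _ _ ≫ x
    rw [Category.comp_id, IsPullback.isoPullback_hom_fst_assoc]
  · show Spec.map _ ≫ 𝟙 _ = 𝟙 _ ≫ colimit.ι F p ≫ f
    rw [Category.comp_id, Category.id_comp, hf]
  · simp

end Groth.Agent.DefObs3
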