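import Groth.Agent.Lib.CubeField.H1
import Groth.Agent.Lib.CechFlasque16.Main

/-!
# Classes of two-cocycles
-/

set_option autoImplicit false
set_option linter.style.haveILetI false
set_option backward.isDefEq.respectTransparency false

universe u

open CategoryTheory CategoryTheory.Limits AlgebraicGeometry TopologicalSpace Opposite

namespace Groth.Agent.DefObs3

open CohFound CubeField

variable {X : TopCat.{u}} {ι : Type}

/-- The two-cocycle condition. -/
def IsCocycle2 (F : CohTop.Ab X) (V : ι → Opens X) (c : ∀ i j l, F.obj.obj (op (V i ⊓ V j ⊓ V l))) : Prop :=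
  ∀ (i j l m : ι) (U : Opens X) (hi : U ≤ V i) (hj : U ≤ V j) (hl : U ≤ V l) (hm : U ≤ V m),
    ab F (le_inf (le_inf hj hl) hm) (c j l m) + ab F (le_inf (le_inf hi hj) hm) (c i j m) =
      ab F (le_inf (le_inf hi hl) hm) (c i l m) + ab F (le_inf (le_inf hi hj) hl) (c i j l)

/-- The coboundary of a one-cochain. -/
def bd (F : CohTop.Ab X) (V : ι → Opens X) (s : ∀ i j, F.obj.obj (op (V i ⊓ V j))) (i j l : ι) :
    F.obj.obj (op (V i ⊓ V j ⊓ V l)) :=
  ab F inf_le_left (s i j) + ab F (inf_le_inf_right _ inf_le_right) (s j l) -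
    ab F (inf_le_inf_right _ inf_le_left) (s i l)

theorem app_bd {F G : CohTop.Ab X} (φ : F ⟶ G) (V : ι → Opens X) (s : ∀ i j, F.obj.obj (op (V i ⊓ V j))) (i j l : ι) :
    φ.hom.app (op (V i ⊓ V j ⊓ V l)) (bd F V s i j l) = bd G V (fun i j => φ.hom.app (op (V i ⊓ V j)) (s i j)) i j l := by
  simp only [bd, map_sub, map_add, app_ab]

theorem bd_sub (F : CohTop.Ab X) (V : ι → Opens X) (s t : ∀ i j, F.obj.obj (op (V i ⊓ V j))) (i j l : ι) :
    bd F V (fun i j => s i j - t i j) i j l = bd F V s i j l - bd F V t i j l := by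
  simp only [bd, map_sub]
  abel

theorem bd_add (F : CohTop.Ab X) (V : ι → Opens X) (s t : ∀ i j, F.obj.obj (op (V i ⊓ V j))) (i j l : ι) :
    bd F V (fun i j => s i j + t i j) i j l = bd F V s i j l + bd F V t i j l := by
  simp only [bd, map_add]
  abel

theorem bd_coboundary (F : CohTop.Ab X) (V : ι → Opens X) (h : ∀ i, F.obj.obj (op (V i))) (i j l : ι) :
    bd F V (fun i j => ab F inf_le_left (h i) - ab F inf_le_right (h j)) i j l = 0 := by
  simp only [bd, map_sub, ab_ab]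
  abel

theorem isCocycleAb_of_bd_eq_zero (F : CohTop.Ab X) (V : ι → Opens X) (s : ∀ i j, F.obj.obj (op (V i ⊓ V j)))
    (h : ∀ i j l, bd F V s i j l = 0) : IsCocycleAb F V s := fun i j l U hi hj hl => by
  have e := congrArg (ab F (le_inf (le_inf hi hj) hl)) (h i j l)
  rw [bd, map_sub, map_add, map_zero, ab_ab, ab_ab, ab_ab, sub_eq_zero] at e
  exact e

theorem bd_eq_zero (F : CohTop.Ab X) (V : ι → Opens X) (s : ∀ i j, F.obj.obj (op (V i ⊓ V j)))
    (h : IsCocycleAb F V s) (i j l : ι) : bd F V s i j l = 0 :=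
  sub_eq_zero.2 (h i j l _ (inf_le_left.trans inf_le_left) (inf_le_left.trans inf_le_right) inf_le_right)

/-- Two-cocycles in a flasque sheaf are coboundaries. -/
theorem exists_boundary2_flasque (I : CohTop.Ab X) [TopCat.Sheaf.IsFlasque I] (V : ι → Opens X)
    (c : ∀ i j l, I.obj.obj (op (V i ⊓ V j ⊓ V l))) (hc : IsCocycle2 I V c) :
    ∃ s : ∀ i j, I.obj.obj (op (V i ⊓ V j)), ∀ i j l, bd I V s i j l = c i j l := by
  let U : ULift.{u} ι → Opens X := fun i => V i.down
  have hle : ∀ {n : ℕ} (a : Fin (n + 1) → ULift.{u} ι) (k : Fin (n + 1)), tupOpen U a ≤ V (a k).down :=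
    fun a k => iInf_le (fun k => U (a k)) k
  let f : CechFlasque16.Cochain I.obj U 2 := fun a =>
    ab I (le_inf (le_inf (hle a 0) (hle a 1)) (hle a 2)) (c (a 0).down (a 1).down (a 2).down)
  have hG : CechFlasque16.Ext (I : TopCat.Sheaf AddCommGrpCat X) (fun _ => True) :=
    ⟨fun _ _ _ _ => trivial, fun _ _ => trivial, fun V W h _ _ s => flasque_surjective I h s⟩
  have hf : ∀ a, CechFlasque16.dd I.obj U f a = 0 := fun a => by
    have h := hc (a 0).down (a 1).down (a 2).down (a 3).down (tupOpen U a) (hle a 0) (hle a 1) (hle a 2) (hle a 3)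
    rw [← sub_eq_zero] at h
    rw [CechFlasque16.dd, Fin.sum_univ_four]
    refine Eq.trans ?_ h
    simp only [Fin.val_zero, Fin.val_one, Fin.val_two, pow_zero, pow_one, one_smul, neg_smul, f]
    rw [show ((3 : Fin 4) : ℕ) = 3 from rfl]
    norm_num
    simp only [CechFlasque16.res, ← ab.eq_def, ab_ab]
    simp only [Fin.succAbove, Function.comp]
    simp only [Fin.reduceCastSucc, Fin.reduceSucc]
    abel_nf
    exact congrArg (_ + ·) (add_left_comm _ _ _)
  obtain ⟨g, hg⟩ := CechFlasque16.exists_dd_eq hG 1 U (fun _ => trivial) f hf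
  have hin : ∀ i j : ι, V i ⊓ V j ≤ tupOpen U ![⟨i⟩, ⟨j⟩] := fun i j => le_iInf fun k => by
    fin_cases k
    · exact inf_le_left
    · exact inf_le_right
  refine ⟨fun i j => CechFlasque16.res I.obj (hin i j) (g ![⟨i⟩, ⟨j⟩]), fun i j l => ?_⟩
  let a : Fin 3 → ULift.{u} ι := ![⟨i⟩, ⟨j⟩, ⟨l⟩]
  have ha : V i ⊓ V j ⊓ V l ≤ tupOpen U a := le_iInf fun k => by
    fin_cases k
    · exact inf_le_left.trans inf_le_left
    · exact inf_le_left.trans inf_le_right
    · exact inf_le_right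
  have h := congrArg (CechFlasque16.res I.obj ha) (hg a)
  rw [CechFlasque16.dd, Fin.sum_univ_three, map_add, map_add, map_zsmul, map_zsmul, map_zsmul] at h
  simp only [Fin.val_zero, Fin.val_one, Fin.val_two, pow_zero, pow_one, one_smul, neg_smul, neg_one_sq,
    CechFlasque16.res_res] at h
  refine Eq.trans ?_ (h.trans ?_)
  · show CechFlasque16.res I.obj _ (CechFlasque16.res I.obj _ _) + CechFlasque16.res I.obj _ (CechFlasque16.res I.obj _ _) -
      CechFlasque16.res I.obj _ (CechFlasque16.res I.obj _ _) = _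
    rw [CechFlasque16.res_res, CechFlasque16.res_res, CechFlasque16.res_res]
    rw [CechFlasque16.res_congr I.obj (fun b => tupOpen U b) g (show ![ULift.up i, ULift.up j] = a ∘ Fin.succAbove 2 by
        funext k; fin_cases k <;> rfl) (W := V i ⊓ V j ⊓ V l) _ (ha.trans (tupOpen_le U a _)),
      CechFlasque16.res_congr I.obj (fun b => tupOpen U b) g (show ![ULift.up j, ULift.up l] = a ∘ Fin.succAbove 0 by
        funext k; fin_cases k <;> rfl) (W := V i ⊓ V j ⊓ V l) _ (ha.trans (tupOpen_le U a _)),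
      CechFlasque16.res_congr I.obj (fun b => tupOpen U b) g (show ![ULift.up i, ULift.up l] = a ∘ Fin.succAbove 1 by
        funext k; fin_cases k <;> rfl) (W := V i ⊓ V j ⊓ V l) _ (ha.trans (tupOpen_le U a _))]
    abel
  · exact (CechFlasque16.res_res I.obj _ _ _).trans (CechFlasque16.res_rfl I.obj _)

variable (F : CohTop.Ab X) (V : ι → Opens X)

/-- `x` is the class of the two-cocycle `c`. -/
def IsClass2 (c : ∀ i j l, F.obj.obj (op (V i ⊓ V j ⊓ V l))) (x : Hc F 2 (⊤ : Opens X)) : Prop :=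
  ∃ (b : ∀ i j, (injSC F).X₂.obj.obj (op (V i ⊓ V j))) (y : Hc (injSC F).X₃ 1 (⊤ : Opens X)),
    (∀ i j l, bd _ V b i j l = (injSC F).f.hom.app (op (V i ⊓ V j ⊓ V l)) (c i j l)) ∧
    IsClass (injSC F).X₃ V (fun i j => (injSC F).g.hom.app (op (V i ⊓ V j)) (b i j)) y ∧
    x = delta (injSC_shortExact F) 1 ⊤ y

theorem exists_isClass2 {n : ℕ} (V : Fin n → Opens X) (hcov : ⨆ i, V i = ⊤)
    (c : ∀ i j l, F.obj.obj (op (V i ⊓ V j ⊓ V l))) (hc : IsCocycle2 F V c) : ∃ x, IsClass2 F V c x := by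
  haveI : TopCat.Sheaf.IsFlasque (injSC F).X₂ := isFlasque_of_injective (Injective.under F)
  obtain ⟨b, hb⟩ := exists_boundary2_flasque (injSC F).X₂ V
    (fun i j l => (injSC F).f.hom.app (op (V i ⊓ V j ⊓ V l)) (c i j l)) fun i j l m U hi hj hl hm => by
      rw [← app_ab, ← app_ab, ← app_ab, ← app_ab, ← map_add, ← map_add, hc i j l m U hi hj hl hm]
  obtain ⟨y, hy⟩ := exists_isClass (injSC F).X₃ V hcov _ (isCocycleAb_of_bd_eq_zero _ V
    (fun i j => (injSC F).g.hom.app (op (V i ⊓ V j)) (b i j)) fun i j l => by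
      rw [← app_bd, hb, g_f_app])
  exact ⟨_, b, y, hb, hy, rfl⟩

theorem IsClass2.eq_mp {n : ℕ} {V : Fin n → Opens X} (hcov : ⨆ i, V i = ⊤)
    {c c' : ∀ i j l, F.obj.obj (op (V i ⊓ V j ⊓ V l))} {x x' : Hc F 2 (⊤ : Opens X)}
    (hx : IsClass2 F V c x) (hx' : IsClass2 F V c' x') (φ : F ⟶ F) (t : ∀ i j, F.obj.obj (op (V i ⊓ V j)))
    (h : ∀ i j l, c i j l = φ.hom.app (op (V i ⊓ V j ⊓ V l)) (c' i j l) + bd F V t i j l) :
    x = mp φ 2 ⊤ x' := by
  obtain ⟨b, y, hb, hy, rfl⟩ := hx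
  obtain ⟨b', y', hb', hy', rfl⟩ := hx'
  let φI : (injSC F).X₂ ⟶ (injSC F).X₂ := Injective.factorThru (φ ≫ (injSC F).f) (injSC F).f
  have hφI : (injSC F).f ≫ φI = φ ≫ (injSC F).f := Injective.comp_factorThru _ _
  let φQ : (injSC F).X₃ ⟶ (injSC F).X₃ := cokernel.desc _ (φI ≫ (injSC F).g)
    (by rw [← Category.assoc, show Injective.ι F ≫ φI = φ ≫ Injective.ι F from hφI, Category.assoc,
      (injSC F).zero, comp_zero])
  have hφQ : (injSC F).g ≫ φQ = φI ≫ (injSC F).g := cokernel.π_desc _ _ _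
  let Φ : injSC F ⟶ injSC F := ShortComplex.homMk φ φI φQ hφI.symm hφQ.symm
  refine Eq.trans ?_ (delta_natural (injSC_shortExact F) (injSC_shortExact F) Φ 1 ⊤ _).symm
  have happ : ∀ (U : Opens X) (z : F.obj.obj (op U)),
      φI.hom.app (op U) ((injSC F).f.hom.app (op U) z) = (injSC F).f.hom.app (op U) (φ.hom.app (op U) z) :=
    fun U z => ConcreteCategory.congr_hom (congrArg (fun ψ => ψ.hom.app (op U)) hφI) z
  have hgQ : ∀ (U : Opens X) (z : (injSC F).X₂.obj.obj (op U)),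
      φQ.hom.app (op U) ((injSC F).g.hom.app (op U) z) = (injSC F).g.hom.app (op U) (φI.hom.app (op U) z) :=
    fun U z => ConcreteCategory.congr_hom (congrArg (fun ψ => ψ.hom.app (op U)) hφQ) z
  haveI : TopCat.Sheaf.IsFlasque (injSC F).X₂ := isFlasque_of_injective (Injective.under F)
  let e : ∀ i j, (injSC F).X₂.obj.obj (op (V i ⊓ V j)) := fun i j =>
    b i j - (φI.hom.app (op (V i ⊓ V j)) (b' i j) + (injSC F).f.hom.app (op (V i ⊓ V j)) (t i j))
  obtain ⟨r, hr⟩ := exists_boundary_flasque (injSC F).X₂ V e (isCocycleAb_of_bd_eq_zero _ V e fun i j l => by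
    rw [bd_sub, bd_add, ← app_bd, ← app_bd, hb, hb', happ, ← map_add, ← h, sub_self])
  refine congrArg _ (hy.eq_mp _ V hcov hy' φQ (fun i => (injSC F).g.hom.app (op (V i)) (r i)) fun i j => ?_)
  rw [hgQ, ← app_ab, ← app_ab, ← map_sub, hr, map_sub, map_add, g_f_app, add_zero]
  abel

theorem IsClass2.eq_boundary {n : ℕ} {V : Fin n → Opens X}
    (hF : ∀ i, Subsingleton (Hc F 1 (V i))) {c : ∀ i j l, F.obj.obj (op (V i ⊓ V j ⊓ V l))}
    (hc : IsClass2 F V c 0) : ∃ t, ∀ i j l, bd F V t i j l = c i j l := by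
  obtain ⟨b, y, hb, hy, hx⟩ := hc
  haveI : TopCat.Sheaf.IsFlasque (injSC F).X₂ := isFlasque_of_injective (Injective.under F)
  obtain ⟨r, hr⟩ := exact₃ (injSC_shortExact F) 1 ⊤ _ hx.symm
  haveI := subsingleton_hc_of_isFlasque (injSC F).X₂ 0 (⊤ : Opens X)
  rw [Subsingleton.elim r 0, map_zero] at hr
  subst hr
  obtain ⟨q, hq⟩ := IsClass.eq_boundary (injSC F).X₃ V hy
  have hl : ∀ i, ∃ h, (injSC F).g.hom.app (op (V i)) h = q i := fun i => by
    obtain ⟨r, hr⟩ := exact₃ (injSC_shortExact F) 0 (V i) ((hc0 (injSC F).X₃ (V i)).symm (q i))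
      (@Subsingleton.elim _ (hF i) _ _)
    exact ⟨hc0 (injSC F).X₂ (V i) r, by rw [← hc0_mp, hr, AddEquiv.apply_symm_apply]⟩
  choose h hh using hl
  choose t ht using fun i j => exists_app_f_eq (injSC_shortExact F) (V i ⊓ V j)
    (b i j - (ab _ inf_le_left (h i) - ab _ inf_le_right (h j))) (by
      rw [map_sub, map_sub, app_ab, app_ab, hh, hh, hq, sub_self])
  refine ⟨t, fun i j l => injective_app_f (injSC_shortExact F) _ ?_⟩
  rw [app_bd, ← hb, show (fun i j => (injSC F).f.hom.app (op (V i ⊓ V j)) (t i j)) =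
    fun i j => b i j - (ab _ inf_le_left (h i) - ab _ inf_le_right (h j)) from funext₂ ht, bd_sub, bd_coboundary, sub_zero]

end Groth.Agent.DefObs3
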