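import Groth.Agent.Lib.DefObs3.Def
import Groth.Agent.Lib.DefObs3.Two

/-!
# The obstruction class to lifting a cocycle of automorphisms
-/

set_option autoImplicit false
set_option linter.style.haveILetI false
set_option backward.isDefEq.respectTransparency.types false

universe u

open CategoryTheory CategoryTheory.Limits AlgebraicGeometry TopologicalSpace IsLocalRing Opposite

namespace Groth.Agent.DefObs3

open ArtFun ArtFun.Art HilbRS3 HilbObs3 CubeField
open DefH13 (FT NT asT ofT der sec_ext der_ab)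

variable {k : Type u} [Field k] {X : Scheme.{u}} {x : X ⟶ Art.specPt k} [QuasiSeparated x] {A B : Art k k}
  {n : ℕ} {V : Fin n → X.affineOpens} {p : B ⟶ A} {e : ℕ} (b : Module.Basis (Fin e) k (RingHom.ker p.toAlgHom))

omit [QuasiSeparated x] in
/-- A lift of a cocycle as a family of sections. -/
def IsLift (p : B ⟶ A) (τ : Cyc x A V) (f : ∀ i j, Sec x B ((V i).1 ⊓ (V j).1)) : Prop :=
  ∀ i j (W : X.affineOpens) (hW : W.1 ≤ (V i).1 ⊓ (V j).1) r, cπ x p W ((f i j).app W hW r) = (τ.f i j).app W hW r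

/-- The defect of a family of sections. -/
def IsDefect (f : ∀ i j, Sec x B ((V i).1 ⊓ (V j).1))
    (c : Fin e → ∀ i j l, (FT x).obj.obj (op ((V i).1 ⊓ (V j).1 ⊓ (V l).1))) : Prop :=
  ∀ i j l (W : X.affineOpens) (hi : W.1 ≤ (V i).1) (hj : W.1 ≤ (V j).1) (hl : W.1 ≤ (V l).1) r,
    T (f i j) W (le_inf hi hj) ((f j l).app W (le_inf hj hl) r) = (f i l).app W (le_inf hi hl) r +
      kel x b W (fun m => der (asT x (c m i j l)) W (le_inf (le_inf hi hj) hl) r)

variable {b}

theorem IsDefect.isCocycle2 (hp : IsSemismallExt p) {f : ∀ i j, Sec x B ((V i).1 ⊓ (V j).1)}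
    {c : Fin e → ∀ i j l, (FT x).obj.obj (op ((V i).1 ⊓ (V j).1 ⊓ (V l).1))} (hc : IsDefect b f c) (μ : Fin e) :
    IsCocycle2 (FT x) (fun i => (V i).1) (c μ) := by
  intro i j l m U hi hj hl hm
  refine sec_ext fun W hW r => ?_
  rw [DefH13.asT_add, DefH13.asT_add, DefH13.der_add, DefH13.der_add, der_ab, der_ab, der_ab, der_ab]
  have hi' := hW.trans hi
  have hj' := hW.trans hj
  have hl' := hW.trans hl
  have hm' := hW.trans hm
  -- `T f_ij (T f_jl (f_lm r))` computed in two ways
  have e1 := congrArg (T (f i j) W (le_inf hi' hj')) (hc j l m W hj' hl' hm' r)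
  rw [map_add, T_kel hp b, hc i j m W hi' hj' hm'] at e1
  have e2 : ∀ z, T (f i j) W (le_inf hi' hj') (T (f j l) W (le_inf hj' hl') z) = T (f i l) W (le_inf hi' hl') z +
      kel x b W (fun μ => der (asT x (c μ i j l)) W (le_inf (le_inf hi' hj') hl') (cι₀ x B W z)) := fun z => by
    let s : Fin e → DefH13.TSec x ((V i).1 ⊓ (V j).1 ⊓ (V l).1) := fun μ => asT x (c μ i j l)
    let g := ((f i l).res (inf_le_inf_right _ inf_le_left : (V i).1 ⊓ (V j).1 ⊓ (V l).1 ≤ _)).vadd b s hp
    refine Eq.trans ?_ (T_vadd hp b ((f i l).res (inf_le_inf_right _ inf_le_left : (V i).1 ⊓ (V j).1 ⊓ (V l).1 ≤ _)) s W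
      (le_inf (le_inf hi' hj') hl') z)
    exact bw_ext x (φ := (T (f i j) W (le_inf hi' hj')).comp (T (f j l) W (le_inf hj' hl')))
      (ψ := T g W (le_inf (le_inf hi' hj') hl')) (fun a => by
        show T _ W _ (T _ W _ (cι x B W a)) = T g W _ (cι x B W a)
        rw [T_cι, T_cι, hc i j l W hi' hj' hl']
        rfl) (fun a => by
        show T _ W _ (T _ W _ (cσ x B W a)) = T g W _ (cσ x B W a)
        rw [T_cσ, T_cσ, T_cσ]) z
  rw [e2, hc i l m W hi' hl' hm', (f l m).sect, add_assoc, add_assoc, ← kel_add, ← kel_add] at e1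
  have e := congrFun (kel_injective x b (add_left_cancel e1)) μ
  simp only [Pi.add_apply] at e
  linear_combination -e

/-- The obstruction classes. -/
def IsObsH [Smooth x] (p : B ⟶ A) (b : Module.Basis (Fin e) k (RingHom.ker p.toAlgHom)) (τ : Cyc x A V)
    (h : Fin e → Coh.HH X (NT x) 2) : Prop :=
  ∃ (f : ∀ i j, Sec x B ((V i).1 ⊓ (V j).1)) (c : Fin e → ∀ i j l, (FT x).obj.obj (op ((V i).1 ⊓ (V j).1 ⊓ (V l).1))),
    IsLift p τ f ∧ IsDefect b f c ∧ ∀ m, IsClass2 (FT x) (fun i => (V i).1) (c m) (CohFound.hhExt (NT x) 2 (h m))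

theorem exists_defect (hp : IsSemismallExt p) {τ : Cyc x A V} {f : ∀ i j, Sec x B ((V i).1 ⊓ (V j).1)}
    (hf : IsLift p τ f) : ∃ c, IsDefect b f c := by
  have h : ∀ i j l, ∃ s : Fin e → DefH13.TSec x ((V i).1 ⊓ (V j).1 ⊓ (V l).1), ∀ W hW r,
      T (f i j) W (hW.trans inf_le_left) ((f j l).app W (hW.trans (inf_le_inf_right _ inf_le_right)) r) =
        (((f i l).res (inf_le_inf_right _ inf_le_left)).vadd b s hp).app W hW r := fun i j l => by
    refine exists_vadd hp b ((f i l).res (inf_le_inf_right _ inf_le_left : (V i).1 ⊓ (V j).1 ⊓ (V l).1 ≤ _))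
      (fun W hW r => T (f i j) W (hW.trans inf_le_left) ((f j l).app W (hW.trans (inf_le_inf_right _ inf_le_right)) r))
      (fun W hW r r' => by simp only [map_add]) (fun W hW r r' => by simp only [map_mul])
      (fun W hW c => by rw [(f j l).str, T_cσ]) (fun W hW W' hW' hle r => ?_) (fun W hW r => ?_)
    · rw [T_res (f i j) W _ (hW'.trans inf_le_left) hle, (f j l).nat W _ W' _ hle]
    · show cπ x p W (T _ W _ _) = cπ x p W ((f i l).app W _ r)
      rw [cπ_T, hf, hf]
      refine Eq.trans ?_ (τ.comp i j l W (hW.trans (inf_le_left.trans inf_le_left))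
        (hW.trans (inf_le_left.trans inf_le_right)) (hW.trans inf_le_right) r).symm
      exact bw_ext x (fun a => by rw [T_cι, T_cι]; exact hf _ _ _ _ a) (fun a => by rw [T_cσ, T_cσ]) _
  choose s hs using h
  exact ⟨fun m i j l => ofT x (s i j l m), fun i j l W hi hj hl r => hs i j l W (le_inf (le_inf hi hj) hl) r⟩

theorem exists_obsH [IsSeparated x] [Smooth x] (hp : IsSemismallExt p) (hcov : ⨆ i, (V i).1 = ⊤) (τ : Cyc x A V) :
    ∃ h, IsObsH p b τ h := by
  haveI : X.IsSeparated := ⟨by rw [show terminal.from X = x ≫ terminal.from _ from terminal.hom_ext _ _]; infer_instance⟩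
  have hf : ∀ i j, ∃ g : Sec x B ((V i).1 ⊓ (V j).1), ∀ W hW r, cπ x p W (g.app W hW r) = (τ.f i j).app W hW r :=
    fun i j => exists_sec_lift ⟨(V i).1 ⊓ (V j).1, IsAffineOpen.inf (V i).2 (V j).2⟩ p hp.1 (τ.f i j)
  choose f hf using hf
  obtain ⟨c, hc⟩ := exists_defect (b := b) hp (τ := τ) hf
  choose y hy using fun m => exists_isClass2 (FT x) (fun i => (V i).1) hcov (c m) (hc.isCocycle2 hp m)
  exact ⟨fun m => (CohFound.hhExt (NT x) 2).symm (y m), f, c, hf, hc, fun m => by
    rw [AddEquiv.apply_symm_apply]; exact hy m⟩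

/-- The change of the defect under translation. -/
theorem IsDefect.vadd (hp : IsSemismallExt p) {f : ∀ i j, Sec x B ((V i).1 ⊓ (V j).1)}
    {c : Fin e → ∀ i j l, (FT x).obj.obj (op ((V i).1 ⊓ (V j).1 ⊓ (V l).1))} (hc : IsDefect b f c)
    (s : Fin e → ∀ i j, (FT x).obj.obj (op ((V i).1 ⊓ (V j).1))) :
    IsDefect b (fun i j => (f i j).vadd b (fun m => asT x (s m i j)) hp)
      (fun m i j l => c m i j l + bd (FT x) (fun i => (V i).1) (s m) i j l) := by
  intro i j l W hi hj hl r
  rw [T_vadd hp b, vadd_app hp b, vadd_app hp b, map_add, T_kel hp b, hc i j l W hi hj hl, map_add, cι₀_kel, add_zero,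
    (f j l).sect, add_assoc, add_assoc, add_assoc, ← kel_add, ← kel_add, ← kel_add]
  refine congrArg (_ + kel x b W ·) (funext fun m => ?_)
  simp only [Pi.add_apply, bd]
  rw [DefH13.asT_add, DefH13.asT_sub, DefH13.asT_add, DefH13.der_add, DefH13.der_sub, DefH13.der_add, der_ab, der_ab,
    der_ab]
  ring

theorem IsDefect.congr {f f' : ∀ i j, Sec x B ((V i).1 ⊓ (V j).1)}
    (h : ∀ i j W hW r, (f' i j).app W hW r = (f i j).app W hW r)
    {c : Fin e → ∀ i j l, (FT x).obj.obj (op ((V i).1 ⊓ (V j).1 ⊓ (V l).1))} (hc : IsDefect b f c) :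
    IsDefect b f' c := by
  intro i j l W hi hj hl r
  rw [h, h]
  refine Eq.trans ?_ (hc i j l W hi hj hl r)
  exact bw_ext x (fun a => by rw [T_cι, T_cι, h]) (fun a => by rw [T_cσ, T_cσ]) _

theorem IsDefect.unique {f : ∀ i j, Sec x B ((V i).1 ⊓ (V j).1)}
    {c c' : Fin e → ∀ i j l, (FT x).obj.obj (op ((V i).1 ⊓ (V j).1 ⊓ (V l).1))} (hc : IsDefect b f c)
    (hc' : IsDefect b f c') (m : Fin e) (i j l : Fin n) : c m i j l = c' m i j l :=
  sec_ext fun W hW r => congrFun (kel_injective x b (add_left_cancel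
    ((hc i j l W (hW.trans (inf_le_left.trans inf_le_left)) (hW.trans (inf_le_left.trans inf_le_right))
      (hW.trans inf_le_right) r).symm.trans
    (hc' i j l W (hW.trans (inf_le_left.trans inf_le_left)) (hW.trans (inf_le_left.trans inf_le_right))
      (hW.trans inf_le_right) r)))) m

theorem exists_translation (hp : IsSemismallExt p) {τ : Cyc x A V} {f f' : ∀ i j, Sec x B ((V i).1 ⊓ (V j).1)}
    (hf : IsLift p τ f) (hf' : IsLift p τ f') :
    ∃ s : Fin e → ∀ i j, (FT x).obj.obj (op ((V i).1 ⊓ (V j).1)),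
      ∀ i j W hW r, (f' i j).app W hW r = ((f i j).vadd b (fun m => asT x (s m i j)) hp).app W hW r := by
  have h := fun i j => exists_vadd hp b (f i j) (fun W hW r => (f' i j).app W hW r)
    (fun W hW r r' => map_add _ r r') (fun W hW r r' => map_mul _ r r') (f' i j).str (f' i j).nat
    (fun W hW r => (hf' i j W hW r).trans (hf i j W hW r).symm)
  choose s hs using h
  exact ⟨fun m i j => ofT x (s i j m), hs⟩

theorem IsObsH.unique [Smooth x] (hp : IsSemismallExt p) (hcov : ⨆ i, (V i).1 = ⊤) {τ : Cyc x A V}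
    {h h' : Fin e → Coh.HH X (NT x) 2} (H : IsObsH p b τ h) (H' : IsObsH p b τ h') : h = h' := by
  obtain ⟨f, c, hf, hc, hy⟩ := H
  obtain ⟨f', c', hf', hc', hy'⟩ := H'
  obtain ⟨s, hs⟩ := exists_translation (b := b) hp hf' hf
  have hc'' := (hc'.vadd hp s).congr hs
  funext m
  refine (CohFound.hhExt (NT x) 2).injective ?_
  have := (hy m).eq_mp (FT x) hcov (hy' m) (𝟙 _) (s m) fun i j l => hc.unique hc'' m i j l
  rwa [CohFound.mp_id] at this

/-- The classes vanish exactly when the cocycle lifts. -/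
theorem IsObsH.eq_zero_iff [IsSeparated x] [Smooth x] (hp : IsSemismallExt p) (hcov : ⨆ i, (V i).1 = ⊤) {τ : Cyc x A V}
    {h : Fin e → Coh.HH X (NT x) 2} (H : IsObsH p b τ h) : h = 0 ↔ ∃ τ' : Cyc x B V, IsLift p τ τ'.f := by
  refine ⟨fun h0 => ?_, fun ⟨τ', hτ'⟩ => ?_⟩
  · obtain ⟨f, c, hf, hc, hy⟩ := H
    subst h0
    have hz : ∀ m, ∃ t, ∀ i j l, bd (FT x) (fun i => (V i).1) t i j l = c m i j l := fun m => by
      refine IsClass2.eq_boundary (FT x) (fun i => ?_) (by simpa using hy m)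
      haveI : (NT x).IsQuasicoherent := DefH13.isQCoh_NT x
      exact CohFound.subsingleton_hc_isAffineOpen (NT x) (V i).2 0
    choose t ht using hz
    have hc'' := hc.vadd hp fun m i j => -(t m i j)
    refine ⟨{ f := fun i j => (f i j).vadd b (fun m => asT x (-(t m i j))) hp, comp := fun i j l W hi hj hl r => ?_ },
      fun i j W hW r => ?_⟩
    · refine Eq.symm ((hc'' i j l W hi hj hl r).trans ?_)
      rw [show (fun m => der (asT x (c m i j l + bd (FT x) (fun i => (V i).1) (fun i j => -(t m i j)) i j l)) W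
        (le_inf (le_inf hi hj) hl) r) = 0 from funext fun m => by
        have : bd (FT x) (fun i => (V i).1) (fun i j => -(t m i j)) i j l = -(c m i j l) := by
          rw [← ht]; simp only [bd, map_neg]; abel
        rw [this, add_neg_cancel]
        rfl, show kel x b W 0 = 0 by simp [kel], add_zero]
    · show cπ x p W ((f i j).app W hW r + kel x b W _) = _
      rw [map_add, kel_mem, add_zero, hf]
  · refine H.unique hp hcov ⟨τ'.f, fun _ _ _ _ => 0, hτ', fun i j l W hi hj hl r => ?_, fun m => ?_⟩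
    · rw [τ'.comp i j l W hi hj hl r]
      rw [show (fun m => der (asT x ((fun _ _ _ _ => 0 : Fin e → ∀ i j l,
          (FT x).obj.obj (op ((V i).1 ⊓ (V j).1 ⊓ (V l).1))) m i j l)) W (le_inf (le_inf hi hj) hl) r) = 0
          from funext fun m => rfl, show kel x b W 0 = 0 by simp [kel], add_zero]
    · refine ⟨0, 0, fun i j l => ?_, ⟨0, 0, fun i j => ?_, fun i => ?_, ?_⟩, ?_⟩
      · simp [bd]
      · simp
      · simp
      · simp
      · simp

end Groth.Agent.DefObs3
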