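import Groth.Agent.Lib.DefObs3.Chart
import Groth.Agent.Lib.DefObs3.Family
import Groth.Agent.Lib.DefH13.Tsec

/-!
# Compatible homomorphisms into the charts of a trivial deformation
-/

set_option autoImplicit false
set_option linter.style.haveILetI false
set_option backward.isDefEq.respectTransparency.types false

universe u

open CategoryTheory CategoryTheory.Limits AlgebraicGeometry TopologicalSpace IsLocalRing

namespace Groth.Agent.DefObs3

open ArtFun ArtFun.Art HilbRS3 HilbObs3 DefH13

variable {k : Type u} [Field k] {X : Scheme.{u}} {x : X ⟶ Art.specPt k}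

/-- A section of a trivial deformation over an open, on affine opens. -/
structure Sec (x : X ⟶ Art.specPt k) (A : Art k k) (U : X.Opens) : Type u where
  app : ∀ W : X.affineOpens, W.1 ≤ U → (Γ(X, W.1) →+* BW x A W)
  sect : ∀ W hW r, cι₀ x A W (app W hW r) = r
  str : ∀ W hW c, app W hW (ThickAff3.str x W.1 c) = cσ x A W (algebraMap k A c)
  nat : ∀ W hW W' hW' (h : W'.1 ≤ W.1) r, cres x A h (app W hW r) = app W' hW' (X.presheaf.map (homOfLE h).op r)

variable {A B : Art k k} {U : X.Opens}

/-- The endomorphism of a chart given by a section. -/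
noncomputable def T (f : Sec x A U) (W : X.affineOpens) (hW : W.1 ≤ U) : BW x A W →+* BW x A W :=
  desc x (f.app W hW) (cσ x A W) (f.str W hW)

section T

variable (f : Sec x A U) (W : X.affineOpens) (hW : W.1 ≤ U)

theorem T_cι (r : Γ(X, W.1)) : T f W hW (cι x A W r) = f.app W hW r := desc_cι x _ _ _ r

theorem T_cσ (a : A) : T f W hW (cσ x A W a) = cσ x A W a := desc_cσ x _ _ _ a

theorem cι₀_T (z : BW x A W) : cι₀ x A W (T f W hW z) = cι₀ x A W z :=
  bw_ext x (φ := (cι₀ x A W).comp (T f W hW)) (fun r => by
    show cι₀ x A W (T f W hW (cι x A W r)) = _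
    rw [T_cι, f.sect, cι₀_cι]) (fun a => by
    show cι₀ x A W (T f W hW (cσ x A W a)) = _
    rw [T_cσ]) z

theorem T_bijective : Function.Bijective (T f W hW) := by
  have e : (T f W hW).comp (cσ x A W) = cσ x A W := RingHom.ext (T_cσ f W hW)
  refine bijective_chart x (T f W hW) (cι₀ x A W) (cι₀_T f W hW) ?_ ?_
  · rw [e]; exact (ker_cι₀ x A W).le
  · rw [e]; exact flat_cσ x A W

theorem T_res {W' : X.affineOpens} (hW' : W'.1 ≤ U) (h : W'.1 ≤ W.1) (z : BW x A W) :
    cres x A h (T f W hW z) = T f W' hW' (cres x A h z) :=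
  bw_ext x (φ := (cres x A h).comp (T f W hW)) (ψ := (T f W' hW').comp (cres x A h)) (fun r => by
    show cres x A h (T f W hW (cι x A W r)) = T f W' hW' (cres x A h (cι x A W r))
    rw [T_cι, cres_cι, T_cι, f.nat]) (fun a => by
    show cres x A h (T f W hW (cσ x A W a)) = T f W' hW' (cres x A h (cσ x A W a))
    rw [T_cσ, cres_cσ, T_cσ]) z

end T

/-- The image of a section. -/
noncomputable def Sec.map (f : Sec x B U) (p : B ⟶ A) : Sec x A U where
  app W hW := (cπ x p W).comp (f.app W hW)
  sect W hW r := by
    show cι₀ x A W (cπ x p W (f.app W hW r)) = r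
    rw [cι₀_cπ, f.sect]
  str W hW c := by
    show cπ x p W (f.app W hW _) = _
    rw [f.str, cπ_cσ, AlgHom.commutes]
  nat W hW W' hW' h r := by
    show cres x A h (cπ x p W (f.app W hW r)) = cπ x p W' (f.app W' hW' _)
    rw [← cπ_cres, f.nat W hW W' hW' h]

theorem cπ_T (f : Sec x B U) (p : B ⟶ A) (W : X.affineOpens) (hW : W.1 ≤ U) (z : BW x B W) :
    cπ x p W (T f W hW z) = T (f.map p) W hW (cπ x p W z) :=
  bw_ext x (φ := (cπ x p W).comp (T f W hW)) (ψ := (T (f.map p) W hW).comp (cπ x p W)) (fun r => by
    show cπ x p W (T f W hW (cι x B W r)) = T (f.map p) W hW (cπ x p W (cι x B W r))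
    rw [T_cι, cπ_cι, T_cι]
    rfl) (fun a => by
    show cπ x p W (T f W hW (cσ x B W a)) = T (f.map p) W hW (cπ x p W (cσ x B W a))
    rw [T_cσ, cπ_cσ, T_cσ]) z

/-- Sections lift over affine opens. -/
theorem exists_sec_lift [Smooth x] (V : X.affineOpens) (p : B ⟶ A) (hp : Function.Surjective p)
    (f : Sec x A V.1) : ∃ g : Sec x B V.1, ∀ W hW r, cπ x p W (g.app W hW r) = f.app W hW r := by
  obtain ⟨g, hgq, hgs, hgn⟩ := exists_lift_family (x := x) V (fun W => BW x B W) (fun W => BW x A W)
    (fun h => cres x B h) (fun h => cres x A h)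
    (fun {W W' W''} h h' z => RingHom.congr_fun (cres_cres x h h') z)
    (fun W => cπ x p W) (fun W => cπ_surjective x p hp W)
    (fun W => by
      rw [ker_cπ_map]
      obtain ⟨N, hN⟩ := isNilpotent_m B
      refine ⟨N, ?_⟩
      rw [← Ideal.map_pow, Ideal.zero_eq_bot, Ideal.map_eq_bot_iff_le_ker]
      exact ((Ideal.pow_right_mono (ArtFunLib.ker_le p) N).trans hN.le).trans bot_le)
    (fun h z => cπ_cres x p h z) (fun W => (cσ x B W).comp (algebraMap k B.carrier))
    (fun h c => cres_cσ x h B _) f.app
    (fun W hW c => by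
      show _ = cπ x p W (cσ x B W (algebraMap k B.carrier c))
      rw [f.str, cπ_cσ, AlgHom.commutes])
    f.nat
  exact ⟨{ app := g, str := hgs, nat := hgn,
           sect := fun W hW r => by rw [← cι₀_cπ x p, hgq, f.sect] }, hgq⟩

/-- Restriction. -/
def Sec.res (f : Sec x A U) {U' : X.Opens} (h : U' ≤ U) : Sec x A U' where
  app W hW := f.app W (hW.trans h)
  sect W hW := f.sect W (hW.trans h)
  str W hW := f.str W (hW.trans h)
  nat W hW W' hW' := f.nat W (hW.trans h) W' (hW'.trans h)

section Diff

variable [QuasiSeparated x] {p : B ⟶ A} (hp : IsSemismallExt p) {e : ℕ}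
  (b : Module.Basis (Fin e) k (RingHom.ker p.toAlgHom))

/-- Translation of a section by sections of the tangent sheaf with values in the kernel. -/
noncomputable def Sec.vadd (f : Sec x B U) (s : Fin e → TSec x U) (hp : IsSemismallExt p) : Sec x B U where
  app W hW :=
    { toFun := fun r => f.app W hW r + kel x b W (fun l => der (s l) W hW r)
      map_one' := by
        have h : ∀ l, der (s l) W hW 1 = 0 := fun l => by
          have := der_mul (s l) W hW 1 1
          rw [one_mul, one_mul] at this
          simpa using this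
        simp [kel, h]
      map_mul' := fun r r' => by
        rw [show (fun l => der (s l) W hW (r * r')) = (fun l => cι₀ x B W (f.app W hW r) * der (s l) W hW r') +
          fun l => cι₀ x B W (f.app W hW r') * der (s l) W hW r from funext fun l => by
          rw [f.sect, f.sect]; exact der_mul (s l) W hW r r', kel_add, ← kel_mul x hp, ← kel_mul x hp, map_mul]
        linear_combination -(kel_mul_kel x hp b (fun l => der (s l) W hW r) (fun l => der (s l) W hW r'))
      map_zero' := by
        have h : ∀ l, der (s l) W hW 0 = 0 := fun l => by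
          have := der_add_arg (s l) W hW 0 0
          rw [add_zero] at this
          simpa using this
        simp [kel, h]
      map_add' := fun r r' => by
        rw [show (fun l => der (s l) W hW (r + r')) = (fun l => der (s l) W hW r) + fun l => der (s l) W hW r' from
          funext fun l => der_add_arg (s l) W hW r r', kel_add, map_add]
        ring }
  sect W hW r := by
    show cι₀ x B W (f.app W hW r + kel x b W (fun l => der (s l) W hW r)) = r
    rw [map_add, f.sect, cι₀_kel, add_zero]
  str W hW c := by
    show f.app W hW _ + kel x b W (fun l => der (s l) W hW (ThickAff3.str x W.1 c)) = _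
    simp [f.str, der_str, kel]
  nat W hW W' hW' h r := by
    show cres x B h (f.app W hW r + kel x b W (fun l => der (s l) W hW r)) =
      f.app W' hW' _ + kel x b W' (fun l => der (s l) W' hW' (X.presheaf.map (homOfLE h).op r))
    rw [map_add, f.nat W hW W' hW' h, kel, kel, map_sum]
    refine congrArg (_ + ·) (Finset.sum_congr rfl fun l _ => ?_)
    rw [map_mul, cres_cσ, cres_cι, der_res (s l) W hW W' hW' h]

theorem vadd_app (f : Sec x B U) (s : Fin e → TSec x U) (W : X.affineOpens) (hW : W.1 ≤ U) (r : Γ(X, W.1)) :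
    (f.vadd b s hp).app W hW r = f.app W hW r + kel x b W (fun l => der (s l) W hW r) := rfl

omit [QuasiSeparated x] in
include hp in
theorem T_kel (f : Sec x B U) (W : X.affineOpens) (hW : W.1 ≤ U) (d : Fin e → Γ(X, W.1)) :
    T f W hW (kel x b W d) = kel x b W d := by
  rw [kel, map_sum]
  refine Finset.sum_congr rfl fun l _ => ?_
  rw [map_mul, T_cσ]
  exact σ_mul_eq x hp (b l).2 (cι₀_T f W hW _)

theorem T_vadd (f : Sec x B U) (s : Fin e → TSec x U) (W : X.affineOpens) (hW : W.1 ≤ U) (z : BW x B W) :
    T (f.vadd b s hp) W hW z = T f W hW z + kel x b W (fun l => der (s l) W hW (cι₀ x B W z)) := by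
  induction (bc_base x B W).2.1 z using AddSubgroup.closure_induction with
  | mem z hz =>
    obtain ⟨a, r, rfl⟩ := hz
    rw [map_mul, map_mul, T_cι, T_cι, T_cσ, T_cσ, vadd_app, mul_add, kel_mul x hp b]
    refine congrArg (_ + kel x b W ·) (funext fun l => ?_)
    rw [map_mul, cι₀_cσ, cι₀_cι, der_mul, der_str, mul_zero, add_zero]
  | zero =>
    have h : ∀ l, der (s l) W hW 0 = 0 := fun l => by
      have := der_add_arg (s l) W hW 0 0
      rw [add_zero] at this
      simpa using this
    simp [kel, h]
  | add z w _ _ hz hw =>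
    rw [map_add, map_add, map_add, hz, hw, show (fun l => der (s l) W hW (cι₀ x B W z + cι₀ x B W w)) =
      (fun l => der (s l) W hW (cι₀ x B W z)) + fun l => der (s l) W hW (cι₀ x B W w) from
      funext fun l => der_add_arg (s l) W hW _ _, kel_add]
    ring
  | neg z _ hz =>
    have h : (fun l => der (s l) W hW (cι₀ x B W z)) + (fun l => der (s l) W hW (cι₀ x B W (-z))) = 0 :=
      funext fun l => by
        show der (s l) W hW (cι₀ x B W z) + der (s l) W hW (cι₀ x B W (-z)) = 0
        rw [← der_add_arg, ← map_add, add_neg_cancel, map_zero]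
        have := der_add_arg (s l) W hW 0 0
        rw [add_zero] at this
        simpa using this
    have h' := congrArg (kel x b W) h
    rw [kel_add, show kel x b W 0 = 0 by simp [kel]] at h'
    rw [map_neg, map_neg (T f W hW), hz]
    linear_combination -h'

include hp in
/-- Families congruent modulo the kernel differ by sections of the tangent sheaf. -/
theorem exists_vadd (f : Sec x B U) (g : ∀ W : X.affineOpens, W.1 ≤ U → Γ(X, W.1) → BW x B W)
    (hadd : ∀ W hW r r', g W hW (r + r') = g W hW r + g W hW r')
    (hmul : ∀ W hW r r', g W hW (r * r') = g W hW r * g W hW r')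
    (hstr : ∀ W hW c, g W hW (ThickAff3.str x W.1 c) = cσ x B W (algebraMap k B c))
    (hnat : ∀ W hW W' hW' (h : W'.1 ≤ W.1) r, cres x B h (g W hW r) = g W' hW' (X.presheaf.map (homOfLE h).op r))
    (hmod : ∀ W hW r, cπ x p W (g W hW r) = cπ x p W (f.app W hW r)) :
    ∃ s : Fin e → TSec x U, ∀ W hW r, g W hW r = (f.vadd b s hp).app W hW r := by
  have hd : ∀ (W : X.affineOpens) (hW : W.1 ≤ U) r, ∃ d, g W hW r - f.app W hW r = kel x b W d := fun W hW r =>
    exists_kel x hp b (by rw [map_sub, hmod, sub_self])
  choose D hD using hd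
  have hdef : ∀ W hW r, g W hW r = f.app W hW r + kel x b W (D W hW r) := fun W hW r => by
    rw [← hD W hW r, add_sub_cancel]
  have hs : ∀ l, ∃ s : TSec x U, ∀ W hW r, der s W hW r = D W hW r l := fun l => by
    refine exists_tsec (fun W hW r => D W hW r l) (fun W hW r r' => ?_) (fun W hW r r' => ?_) (fun W hW c => ?_)
      (fun W hW W' hW' h r => ?_)
    · refine congrFun (kel_injective x b (a₁ := D W hW (r + r')) (a₂ := D W hW r + D W hW r') ?_) l
      rw [kel_add, ← hD, ← hD, ← hD, hadd, map_add]
      ring
    · refine congrFun (kel_injective x b (a₁ := D W hW (r * r'))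
        (a₂ := (fun l => cι₀ x B W (f.app W hW r) * D W hW r' l) + fun l => cι₀ x B W (f.app W hW r') * D W hW r l) ?_) l
        |>.trans (by rw [Pi.add_apply, f.sect, f.sect])
      rw [kel_add, ← kel_mul x hp, ← kel_mul x hp, ← hD W hW (r * r'), hmul, map_mul, hdef W hW r, hdef W hW r']
      linear_combination kel_mul_kel x hp b (D W hW r) (D W hW r')
    · refine congrFun (kel_injective x b (a₁ := D W hW _) (a₂ := 0) ?_) l
      rw [← hD, hstr, f.str, sub_self]
      simp [kel]
    · have e : kel x b W' (fun l => X.presheaf.map (homOfLE h).op (D W hW r l)) =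
          kel x b W' (D W' hW' (X.presheaf.map (homOfLE h).op r)) := by
        rw [← hD W' hW', ← hnat W hW W' hW' h, ← f.nat W hW W' hW' h, ← map_sub, hD, kel, kel, map_sum]
        refine Finset.sum_congr rfl fun l _ => ?_
        rw [map_mul, cres_cσ, cres_cι]
      exact congrFun (kel_injective x b e) l
  choose s hs using hs
  refine ⟨s, fun W hW r => ?_⟩
  rw [vadd_app, hdef]
  exact congrArg (_ + kel x b W ·) (funext fun l => (hs l W hW r).symm)

end Diff

end Groth.Agent.DefObs3
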