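import Groth.Agent.Lib.DefObs3.Obs
import Groth.Agent.Lib.CubeField.Slice
import Groth.Prelude.Def_ArtFun3

/-!
# The obstruction theory of the deformation functor of a smooth scheme
-/

set_option autoImplicit false
set_option linter.style.haveILetI false
set_option backward.isDefEq.respectTransparency.types false

universe u

open CategoryTheory CategoryTheory.Limits AlgebraicGeometry TopologicalSpace IsLocalRing Opposite
open scoped TensorProduct

namespace Groth.Agent.DefObs3

open ArtFun ArtFun.Art HilbRS3 HilbObs3 CubeField DefGlue3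
open DefH13 (FT NT asT ofT der sec_ext der_ab)

theorem isClass2_zero {X : TopCat.{u}} {ι : Type} (F : CohTop.Ab X) (V : ι → Opens X) :
    IsClass2 F V (fun _ _ _ => 0) 0 := by
  refine ⟨0, 0, fun i j l => ?_, ⟨0, 0, fun i j => ?_, fun i => ?_, ?_⟩, ?_⟩ <;> simp [bd]

theorem IsClass2.add {X : TopCat.{u}} {ι : Type} {F : CohTop.Ab X} {V : ι → Opens X}
    {c c' : ∀ i j l, F.obj.obj (op (V i ⊓ V j ⊓ V l))} {a a' : CohFound.Hc F 2 (⊤ : Opens X)}
    (h : IsClass2 F V c a) (h' : IsClass2 F V c' a') :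
    IsClass2 F V (fun i j l => c i j l + c' i j l) (a + a') := by
  obtain ⟨b, y, hb, hy, rfl⟩ := h
  obtain ⟨b', y', hb', hy', rfl⟩ := h'
  refine ⟨fun i j => b i j + b' i j, y + y', fun i j l => ?_, ?_, (map_add _ _ _).symm⟩
  · rw [bd_add, hb, hb', map_add]
  · rw [show (fun i j => (CohFound.injSC F).g.hom.app (op (V i ⊓ V j)) (b i j + b' i j)) =
      fun i j => (CohFound.injSC F).g.hom.app (op (V i ⊓ V j)) (b i j) +
        (CohFound.injSC F).g.hom.app (op (V i ⊓ V j)) (b' i j) from funext₂ fun i j => map_add _ _ _]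
    exact HilbObs3.isClass_add hy hy'

theorem IsClass2.map {X : TopCat.{u}} {n : ℕ} {F : CohTop.Ab X} {V : Fin n → Opens X} (hcov : ⨆ i, V i = ⊤)
    {c : ∀ i j l, F.obj.obj (op (V i ⊓ V j ⊓ V l))} {a : CohFound.Hc F 2 (⊤ : Opens X)} (h : IsClass2 F V c a)
    (hc : IsCocycle2 F V c) (φ : F ⟶ F) :
    IsClass2 F V (fun i j l => φ.hom.app (op (V i ⊓ V j ⊓ V l)) (c i j l)) (CohFound.mp φ 2 ⊤ a) := by
  obtain ⟨y, hy⟩ := exists_isClass2 F V hcov (fun i j l => φ.hom.app (op (V i ⊓ V j ⊓ V l)) (c i j l))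
    fun i j l m U hi hj hl hm => by
      rw [← app_ab, ← app_ab, ← app_ab, ← app_ab, ← map_add, ← map_add, hc i j l m U hi hj hl hm]
  exact (hy.eq_mp F hcov h φ (fun _ _ => 0) fun i j l => by simp [bd]) ▸ hy

variable {k : Type u} [Field k] {X : Scheme.{u}} {x : X ⟶ Art.specPt k} [QuasiSeparated x] [Smooth x] {A B B' : Art k k}
  {n : ℕ} {V : Fin n → X.affineOpens} {p : B ⟶ A} {π : B ⟶ B'} {q : B' ⟶ A} {e e' : ℕ}
  {b : Module.Basis (Fin e) k (RingHom.ker p.toAlgHom)} {b' : Module.Basis (Fin e') k (RingHom.ker q.toAlgHom)}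

omit [QuasiSeparated x] [Smooth x] in
theorem cπ_kel {M : Fin e → Fin e' → k}
    (hM : ∀ l, π (b l).1 = ∑ m, algebraMap k B'.carrier (M l m) * (b' m).1) (W : X.affineOpens) (d : Fin e → Γ(X, W.1)) :
    cπ x π W (kel x b W d) = kel x b' W fun m => ∑ l, ThickAff3.str x W.1 (M l m) * d l := by
  rw [kel, kel, map_sum]
  simp only [map_sum, map_mul, cπ_cσ, cπ_cι, cι_str, Finset.mul_sum]
  rw [Finset.sum_comm]
  refine Finset.sum_congr rfl fun l _ => ?_
  rw [show π.toAlgHom (b l).1 = π (b l).1 from rfl, hM, map_sum, Finset.sum_mul]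
  refine Finset.sum_congr rfl fun m _ => ?_
  rw [map_mul]
  ring

variable [X.Over (Spec (CommRingCat.of k))]

theorem IsObsH.push (hx : x = X ↘ Spec (CommRingCat.of k)) (hcov : ⨆ i, (V i).1 = ⊤) (hp : IsSemismallExt p)
    {τ : Cyc x A V} {h : Fin e → Coh.HH X (NT x) 2} (H : IsObsH p b τ h) (hpi : π ≫ q = p) (M : Fin e → Fin e' → k)
    (hM : ∀ l, π (b l).1 = ∑ m, algebraMap k B'.carrier (M l m) * (b' m).1) :
    IsObsH q b' τ fun m => ∑ l, M l m • h l := by
  obtain ⟨f, c, hf, hc, hy⟩ := H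
  let φ := fun r : k => Coh.smulAb (NT x) (Coh.toGlobal (X ↘ Spec (CommRingCat.of k)) r)
  refine ⟨fun i j => (f i j).map π, fun m i j l => ∑ μ, (φ (M μ m)).hom.app (op ((V i).1 ⊓ (V j).1 ⊓ (V l).1)) (c μ i j l),
    fun i j W hW r => ?_, fun i j l W hi hj hl r => ?_, fun m => ?_⟩
  · show cπ x q W (cπ x π W ((f i j).app W hW r)) = _
    refine Eq.trans ?_ (hf i j W hW r)
    subst hpi
    exact bw_ext x (φ := (cπ x q W).comp (cπ x π W)) (fun a => by
      show cπ x q W (cπ x π W (cι x B W a)) = _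
      rw [cπ_cι, cπ_cι, cπ_cι]) (fun a => by
      show cπ x q W (cπ x π W (cσ x B W a)) = _
      rw [cπ_cσ, cπ_cσ, cπ_cσ]
      rfl) _
  · show T ((f i j).map π) W _ (cπ x π W ((f j l).app W _ r)) = cπ x π W ((f i l).app W _ r) + _
    rw [← cπ_T, hc i j l W hi hj hl r, map_add, cπ_kel hM]
    refine congrArg (_ + kel x b' W ·) (funext fun m => ?_)
    let U : X.Opens := (V i).1 ⊓ (V j).1 ⊓ (V l).1
    let G : (FT x).obj.obj (op U) →+ Γ(X, W.1) := AddMonoidHom.mk'
      (fun s => der (asT x s) W (le_inf (le_inf hi hj) hl) r) fun s t => by rw [DefH13.asT_add]; exact DefH13.der_add _ _ _ _ _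
    show _ = G (∑ μ, (φ (M μ m)).hom.app (op U) (c μ i j l))
    rw [map_sum]
    exact Finset.sum_congr rfl fun μ _ => (DefH13.der_smulAb hx _ _ W _ r).symm
  · have key : ∀ s : Finset (Fin e), IsClass2 (FT x) (fun i => (V i).1)
        (fun i j l => ∑ μ ∈ s, (φ (M μ m)).hom.app (op ((V i).1 ⊓ (V j).1 ⊓ (V l).1)) (c μ i j l))
        (CohFound.hhExt (NT x) 2 (∑ μ ∈ s, M μ m • h μ)) := by
      intro s
      induction s using Finset.induction_on with
      | empty => simpa using isClass2_zero (FT x) (fun i => (V i).1)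
      | insert μ s hμ ih =>
        simp only [Finset.sum_insert hμ, map_add]
        refine IsClass2.add ?_ ih
        have e1 : CohFound.hhExt (NT x) 2 (M μ m • h μ) = CohFound.mp (φ (M μ m)) 2 ⊤ (CohFound.hhExt (NT x) 2 (h μ)) :=
          CohFound.hExt_map (φ (M μ m)) 2 (h μ)
        rw [e1]
        exact (hy μ).map hcov (hc.isCocycle2 hp μ) (φ (M μ m))
    exact key Finset.univ

omit [QuasiSeparated x] [X.Over (Spec (CommRingCat.of k))] in
/-- Lifts of a deformation and lifts of its cocycle. -/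
theorem exists_lift_iff (hcov : ⨆ i, (V i).1 = ⊤) (hp : Function.Surjective p) (ξ : DefSch X x A)
    (R : ∀ i, DefH13.Ret ξ (V i).1) :
    (∃ u' : (defFunctor (Λ := k) X x).obj B, (defFunctor X x).map p u' = ξ.cl) ↔
      ∃ τ' : Cyc x B V, IsLift p (cycOf R) τ'.f := by
  constructor
  · rintro ⟨u', hu⟩
    induction u' using Quotient.inductionOn with
    | h ξ' =>
    obtain ⟨g, hg⟩ := exists_over_of_cl (φ := p) (ξ := ξ') (η := ξ) hu
    choose R' hR' using fun i => exists_ret_lift hp hg (V i) (R i)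
    exact ⟨cycOf R', fun i j W hW r => cπ_fOf R hg R' hR' i j W hW r⟩
  · rintro ⟨τ', hτ'⟩
    obtain ⟨ξ', g, hg⟩ := exists_over_glued R hcov p τ' hτ'
    exact ⟨ξ'.cl, hg.cl_map⟩

omit [QuasiSeparated x] [X.Over (Spec (CommRingCat.of k))] in
theorem exists_retractions (ξ : DefSch X x A) (V : X.affineOpens) : Nonempty (DefH13.Ret ξ V.1) := by
  obtain ⟨f, hfq, hfs, hfn⟩ := exists_lift_family (x := x) V (fun W => Γ(ξ.total, DefH13.up ξ W.1)) (fun W => Γ(X, W.1))
    (fun h => (ξ.total.presheaf.map (homOfLE (DefH13.up_mono ξ h)).op).hom)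
    (fun h => (X.presheaf.map (homOfLE h).op).hom)
    (fun {W W' W''} h h' z => (ConcreteCategory.comp_apply _ _ _).symm.trans (by rw [← ξ.total.presheaf.map_comp]; rfl))
    (fun W => DefH13.iW ξ W.1) (fun W => DefH13.iW_surjective ξ W)
    (fun W => by
      obtain ⟨N, hN⟩ := isNilpotent_m A
      refine ⟨N, ?_⟩
      rw [DefH13.ker_iW, ← Ideal.map_pow, hN, Ideal.zero_eq_bot, Ideal.map_bot]
      rfl)
    (fun h z => DefH13.iW_res ξ h z) (fun W => (ThickAff3.str ξ.f (DefH13.up ξ W.1)).comp (algebraMap k A.carrier))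
    (fun h c => ThickAff3.res_str ξ.f (DefH13.up_mono ξ h) _) (fun W _ => RingHom.id _)
    (fun W hW c => by
      show _ = DefH13.iW ξ W.1 (ThickAff3.str ξ.f (DefH13.up ξ W.1) (algebraMap k A.carrier c))
      rw [DefH13.iW_str, AlgHom.commutes]
      rfl)
    (fun W hW W' hW' h r => rfl)
  exact ⟨{ app := f, sect := hfq, str := hfs, nat := hfn }⟩

omit [X.Over (Spec (CommRingCat.of k))] in
/-- Lifting when the second cohomology of the tangent sheaf vanishes. -/
theorem exists_lift_of_subsingleton [IsSeparated x] (hcov : ⨆ i, (V i).1 = ⊤) (hp : IsSemismallExt p)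
    [Subsingleton (Coh.HH X (NT x) 2)] (ξ : DefSch X x A) :
    ∃ (ξ' : DefSch X x B) (g : ξ.total ⟶ ξ'.total), Over' p ξ' ξ g := by
  let R := fun i => (exists_retractions ξ (V i)).some
  haveI := HilbRS3.finite_ker p hp
  obtain ⟨h, H⟩ := exists_obsH (b := Module.finBasis k (RingHom.ker p.toAlgHom)) hp hcov (cycOf R)
  obtain ⟨τ', hτ'⟩ := (H.eq_zero_iff hp hcov).1 (Subsingleton.elim _ _)
  exact exists_over_glued R hcov p τ' hτ'

/-- The obstruction theory. -/
theorem hasObsTheory [IsSeparated x] [QuasiCompact x] (hx : x = X ↘ Spec (CommRingCat.of k))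
    {H : Type u} [AddCommGroup H] [Module k H] (L : Coh.HH X (NT x) 2 ≃ₗ[k] H) :
    HasObsTheory (defFunctor (Λ := k) X x) H := by
  haveI : CompactSpace X := QuasiCompact.compactSpace_of_compactSpace x
  obtain ⟨n, U, hU, hV⟩ := CubeField.exists_finite_affine_cover X
  let V : Fin n → X.affineOpens := fun i => ⟨U i, hU i⟩
  have hrep : ∀ {A : Art k k} (u : (defFunctor (Λ := k) X x).obj A), ∃ ξ : DefSch X x A, ξ.cl = u := fun u =>
    Quotient.exists_rep u
  choose rep hrep using @hrep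
  let cyc : ∀ {A : Art k k} (u : (defFunctor (Λ := k) X x).obj A), Cyc x A V := fun u =>
    cycOf fun i => (exists_retractions (rep u) (V i)).some
  have hex : ∀ {B A : Art k k} (p : B ⟶ A) (hp : IsSemismallExt p) (u : (defFunctor (Λ := k) X x).obj A),
      ∃ (o : H ⊗[k] ↥(RingHom.ker p.toAlgHom)) (e : ℕ) (b : Module.Basis (Fin e) k (RingHom.ker p.toAlgHom))
        (h : Fin e → Coh.HH X (NT x) 2), IsObsH p b (cyc u) h ∧ o = ∑ m, L (h m) ⊗ₜ[k] b m := fun p hp u => by
    haveI := HilbRS3.finite_ker p hp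
    obtain ⟨h, hh⟩ := exists_obsH (b := Module.finBasis k (RingHom.ker p.toAlgHom)) hp hV (cyc u)
    exact ⟨_, _, _, h, hh, rfl⟩
  choose obs dim bas cls hcls hobs using @hex
  refine ⟨⟨fun p hp u => obs p hp u, fun {B A} p hp u => ?_, fun {B A} p hp K hK hKJ hq u => ?_⟩⟩
  · have key := exists_lift_iff (V := V) hV hp.1 (rep u) (fun i => (exists_retractions (rep u) (V i)).some)
    rw [hrep] at key
    rw [key, ← IsObsH.eq_zero_iff hp hV (hcls p hp u), hobs]
    refine ⟨fun h0 => funext fun m => L.injective ?_, fun h0 => by simp [h0]⟩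
    rw [Pi.zero_apply, map_zero]
    have h1 := congrArg ((TensorProduct.lid k H).toLinearMap ∘ₗ (TensorProduct.comm k H k).toLinearMap ∘ₗ
      LinearMap.lTensor H ((bas p hp u).coord m)) h0
    simpa [map_sum, Module.Basis.coord_apply, Finsupp.single_apply] using h1
  · let q := quotFactor hK p hKJ
    let b := bas p hp u
    let b' := bas q hq u
    let M : Fin (dim p hp u) → Fin (dim q hq u) → k := fun l m => b'.repr (kerToQuot hK p hKJ (b l)) m
    have hM : ∀ l, (kerToQuot hK p hKJ).restrictScalars k (b l) = ∑ m, M l m • b' m := fun l =>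
      (b'.sum_repr _).symm
    have hpush := (hcls p hp u).push (π := quotMk B K hK) (q := q) (b' := b') hx hV hp (quotMk_quotFactor hK p hKJ) M
      fun l => by
        have := congrArg (fun v : ↥(RingHom.ker q.toAlgHom) => (v : (quot B K hK).carrier)) (hM l)
        simp only [Submodule.coe_sum, Submodule.coe_smul_of_tower] at this
        refine this.trans (Finset.sum_congr rfl fun m _ => ?_)
        rw [Algebra.smul_def]
    have he := (hcls q hq u).unique hq hV hpush
    rw [hobs q hq u, hobs p hp u, map_sum, he]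
    simp only [LinearMap.lTensor_tmul, map_sum, map_smul, TensorProduct.sum_tmul]
    rw [Finset.sum_comm]
    refine Finset.sum_congr rfl fun l _ => ?_
    rw [hM l, TensorProduct.tmul_sum]
    exact Finset.sum_congr rfl fun m _ => (TensorProduct.smul_tmul _ _ _)

end Groth.Agent.DefObs3
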